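import Mathlib

/-! Siegel-type elements of symplectic groups, and generation. -/

set_option autoImplicit false

namespace Cfsg.Agent.SlimSp

open Matrix

variable {F : Type*} [Field F] {n : ℕ}

/-- The vectors. -/
abbrev Vec (n : ℕ) (F : Type*) := Fin n ⊕ Fin n → F

/-- The group. -/
abbrev Sp (n : ℕ) (F : Type*) [Field F] := ↥(Matrix.symplecticGroup (Fin n) F)

/-- A basis vector of the first half. -/
abbrev eV (i : Fin n) : Vec n F := Pi.single (Sum.inl i) 1

/-- A basis vector of the second half. -/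
abbrev fV (i : Fin n) : Vec n F := Pi.single (Sum.inr i) 1

/-- The alternating form. -/
def om (x y : Vec n F) : F := ∑ i, (x (.inl i) * y (.inr i) - x (.inr i) * y (.inl i))

theorem om_eq (x y : Vec n F) : om x y = -(x ⬝ᵥ (Matrix.J (Fin n) F *ᵥ y)) := by
  simp [om, Matrix.J, dotProduct, Fintype.sum_sum_type, fromBlocks_mulVec, Matrix.neg_mulVec,
    Finset.sum_sub_distrib]
  ring

theorem om_add_left (x x' y : Vec n F) : om (x + x') y = om x y + om x' y := by
  simp only [om, Pi.add_apply, ← Finset.sum_add_distrib]; exact Finset.sum_congr rfl fun i _ => by ring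

theorem om_smul_left (t : F) (x y : Vec n F) : om (t • x) y = t * om x y := by
  simp only [om, Pi.smul_apply, smul_eq_mul, Finset.mul_sum]; exact Finset.sum_congr rfl fun i _ => by ring

theorem om_swap (x y : Vec n F) : om y x = -om x y := by
  simp only [om, ← Finset.sum_neg_distrib]; exact Finset.sum_congr rfl fun i _ => by ring

theorem om_self (x : Vec n F) : om x x = 0 := by
  simp only [om]; exact Finset.sum_eq_zero fun i _ => by ring

theorem om_add_right (x y y' : Vec n F) : om x (y + y') = om x y + om x y' := by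
  rw [om_swap _ x, om_add_left, om_swap x, om_swap x]; ring

theorem om_smul_right (t : F) (x y : Vec n F) : om x (t • y) = t * om x y := by
  rw [om_swap _ x, om_smul_left, om_swap x]; ring

theorem om_zero_left (y : Vec n F) : om 0 y = 0 := by simp [om]
theorem om_zero_right (y : Vec n F) : om y 0 = 0 := by simp [om]

theorem om_neg_left (x y : Vec n F) : om (-x) y = -om x y := by
  rw [← neg_one_smul F, om_smul_left]; ring

theorem om_neg_right (x y : Vec n F) : om x (-y) = -om x y := by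
  rw [← neg_one_smul F, om_smul_right]; ring

theorem om_eV (x : Vec n F) (i : Fin n) : om x (eV i) = -x (.inr i) := by
  simp [om, Pi.single_apply]

theorem om_fV (x : Vec n F) (i : Fin n) : om x (fV i) = x (.inl i) := by
  simp [om, Pi.single_apply]

theorem eV_om (x : Vec n F) (i : Fin n) : om (eV i) x = x (.inr i) := by
  rw [om_swap, om_eV, neg_neg]

theorem fV_om (x : Vec n F) (i : Fin n) : om (fV i) x = -x (.inl i) := by
  rw [om_swap, om_fV]

/-- The action. -/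
def ap (g : Sp n F) (x : Vec n F) : Vec n F := g.1 *ᵥ x

theorem ap_mul (g h : Sp n F) (x : Vec n F) : ap (g * h) x = ap g (ap h x) := by
  simp [ap, Matrix.mulVec_mulVec]

theorem ap_one (x : Vec n F) : ap (1 : Sp n F) x = x := by simp [ap]

theorem ap_inv (g : Sp n F) (x : Vec n F) : ap g⁻¹ (ap g x) = x := by rw [← ap_mul, inv_mul_cancel, ap_one]

theorem ap_inv' (g : Sp n F) (x : Vec n F) : ap g (ap g⁻¹ x) = x := by rw [← ap_mul, mul_inv_cancel, ap_one]

theorem ap_add (g : Sp n F) (x y : Vec n F) : ap g (x + y) = ap g x + ap g y := Matrix.mulVec_add _ _ _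

theorem ap_smul (g : Sp n F) (t : F) (x : Vec n F) : ap g (t • x) = t • ap g x := Matrix.mulVec_smul _ _ _

theorem ap_neg (g : Sp n F) (x : Vec n F) : ap g (-x) = -ap g x := Matrix.mulVec_neg _ _

theorem ap_zero (g : Sp n F) : ap g (0 : Vec n F) = 0 := Matrix.mulVec_zero _

theorem ap_inj {g : Sp n F} {x y : Vec n F} (h : ap g x = ap g y) : x = y := by
  rw [← ap_inv g x, h, ap_inv]

theorem ext_ap {g h : Sp n F} (e : ∀ x, ap g x = ap h x) : g = h :=
  Subtype.ext (Matrix.toLin'.injective (LinearMap.ext fun x =>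
    (Matrix.toLin'_apply _ x).trans ((e x).trans (Matrix.toLin'_apply _ x).symm)))

theorem om_ap (g : Sp n F) (x y : Vec n F) : om (ap g x) (ap g y) = om x y := by
  rw [om_eq, om_eq, ap, ap]
  congr 1
  rw [Matrix.mulVec_mulVec, Matrix.dotProduct_mulVec, Matrix.vecMul_mulVec, ← Matrix.dotProduct_mulVec,
    ← Matrix.mul_assoc, SymplecticGroup.mem_iff'.1 g.2]

theorem ext_basis {g h : Sp n F} (he : ∀ i, ap g (eV i) = ap h (eV i)) (hf : ∀ i, ap g (fV i) = ap h (fV i)) :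
    g = h := by
  refine Subtype.ext (Matrix.ext fun r s => ?_)
  rcases s with s | s
  · simpa [ap] using congrFun (he s) r
  · simpa [ap] using congrFun (hf s) r

/-- A linear map preserving the form, as a group element. -/
noncomputable def ofMap (f : Vec n F →ₗ[F] Vec n F) (hf : ∀ x y, om (f x) (f y) = om x y) : Sp n F :=
  ⟨LinearMap.toMatrix' f, by
    rw [SymplecticGroup.mem_iff']
    refine Matrix.ext fun r s => ?_
    have := hf (Pi.single r 1) (Pi.single s 1)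
    rw [om_eq, om_eq, neg_inj, ← LinearMap.toMatrix'_mulVec f, ← LinearMap.toMatrix'_mulVec f, Matrix.mulVec_mulVec,
      Matrix.dotProduct_mulVec, Matrix.vecMul_mulVec, ← Matrix.dotProduct_mulVec, ← Matrix.mul_assoc] at this
    simpa [Matrix.mulVec_single_one, single_dotProduct] using this⟩

theorem ap_ofMap (f : Vec n F →ₗ[F] Vec n F) (hf : ∀ x y, om (f x) (f y) = om x y) (x : Vec n F) :
    ap (ofMap f hf) x = f x := LinearMap.toMatrix'_mulVec f x

/-- The map of an element `qh`. -/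
def qhMap (w v : Vec n F) (c : F) : Vec n F →ₗ[F] Vec n F where
  toFun x := x + om x w • v + om x v • w + (c * om x w) • w
  map_add' x y := by simp only [om_add_left]; module
  map_smul' t x := by simp only [om_smul_left, RingHom.id_apply]; module

open scoped Classical in
/-- Elements of the unipotent radical at `w`. -/
noncomputable def qh (w v : Vec n F) (c : F) : Sp n F :=
  if h : om w v = 0 then ofMap (qhMap w v c) (fun x y => by
    have h' : om v w = 0 := by rw [om_swap, h, neg_zero]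
    simp only [qhMap, LinearMap.coe_mk, AddHom.coe_mk, om_add_left, om_add_right, om_smul_left, om_smul_right,
      om_self, h, h', om_swap y w, om_swap y v]
    ring) else 1

theorem ap_qh {w v : Vec n F} (h : om w v = 0) (c : F) (x : Vec n F) :
    ap (qh w v c) x = x + om x w • v + om x v • w + (c * om x w) • w := by
  rw [qh, dif_pos h, ap_ofMap]; rfl

theorem qh_mul {w v v' : Vec n F} (h : om w v = 0) (h' : om w v' = 0) (c c' : F) :
    qh w v c * qh w v' c' = qh w (v + v') (c + c' + om v' v) := by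
  refine ext_ap fun x => ?_
  have h'' : om v' w = 0 := by rw [om_swap, h', neg_zero]
  rw [ap_mul, ap_qh h', ap_qh h, ap_qh (by rw [om_add_right, h, h', add_zero])]
  simp only [om_add_left, om_add_right, om_smul_left, om_self, h, h'', mul_zero, add_zero]
  module

theorem qh_zero (w : Vec n F) : qh w 0 0 = 1 := by
  refine ext_ap fun x => ?_
  rw [ap_qh (om_zero_right w), ap_one]; simp [om_zero_right]

theorem qh_inv {w v : Vec n F} (h : om w v = 0) (c : F) : (qh w v c)⁻¹ = qh w (-v) (-c) := by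
  refine inv_eq_of_mul_eq_one_right ?_
  rw [qh_mul h (by rw [om_neg_right, h, neg_zero]), add_neg_cancel, add_neg_cancel, om_neg_left, om_self]
  simp [qh_zero]

theorem qh_conj {w v : Vec n F} (h : om w v = 0) (g : Sp n F) (c : F) :
    g * qh w v c * g⁻¹ = qh (ap g w) (ap g v) c := by
  refine ext_ap fun x => ?_
  rw [ap_mul, ap_mul, ap_qh h, ap_qh (by rw [om_ap, h])]
  have e : ∀ u, om (ap g⁻¹ x) u = om x (ap g u) := fun u => by rw [← om_ap g, ap_inv']
  simp only [ap_add, ap_smul, ap_inv', e]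

theorem qh_commute {w v : Vec n F} (h : om w v = 0) {g : Sp n F} (hw : ap g w = w) (hv : ap g v = v) (c : F) :
    Commute g (qh w v c) := by
  have := qh_conj h g c
  rw [hw, hv, mul_inv_eq_iff_eq_mul] at this
  exact this

theorem qh_fix {w v : Vec n F} (h : om w v = 0) (c : F) {x : Vec n F} (hw : om x w = 0) (hv : om x v = 0) :
    ap (qh w v c) x = x := by
  rw [ap_qh h, hw, hv]; simp

theorem qh_smul_left {w v : Vec n F} (h : om w v = 0) (t c : F) :
    qh (t • w) v c = qh w (t • v) (t * t * c) := by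
  refine ext_ap fun x => ?_
  rw [ap_qh (by rw [om_smul_left, h, mul_zero]), ap_qh (by rw [om_smul_right, h, mul_zero])]
  simp only [om_smul_right]; module

theorem qh_symm {w v : Vec n F} (h : om w v = 0) : qh w v 0 = qh v w 0 := by
  refine ext_ap fun x => ?_
  rw [ap_qh h, ap_qh (by rw [om_swap, h, neg_zero])]
  module

/-- The rank-one Weyl elements. -/
noncomputable def wl (u u' : Vec n F) (s : F) : Sp n F := qh u 0 s * qh u' 0 s⁻¹ * qh u 0 s

theorem wl_fst {u u' : Vec n F} (h : om u u' = 1) {s : F} (hs : s ≠ 0) : ap (wl u u' s) u = s⁻¹ • u' := by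
  have h' : om u' u = -1 := by rw [om_swap, h]
  simp only [wl, ap_mul, ap_qh (om_zero_right _), om_zero_right, om_self, om_add_left, om_smul_left, h, h',
    mul_zero, mul_one, smul_zero, zero_smul, add_zero]
  match_scalars <;> field_simp <;> ring

theorem wl_snd {u u' : Vec n F} (h : om u u' = 1) {s : F} (hs : s ≠ 0) : ap (wl u u' s) u' = (-s) • u := by
  have h' : om u' u = -1 := by rw [om_swap, h]
  simp only [wl, ap_mul, ap_qh (om_zero_right _), om_zero_right, om_self, om_add_left, om_smul_left, h, h',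
    mul_zero, mul_one, smul_zero, zero_smul, add_zero]
  match_scalars <;> field_simp <;> ring

theorem wl_fix {u u' x : Vec n F} (s : F) (h : om x u = 0) (h' : om x u' = 0) : ap (wl u u' s) x = x := by
  simp only [wl, ap_mul, qh_fix (om_zero_right _) _ h (om_zero_right x), qh_fix (om_zero_right _) _ h' (om_zero_right x)]

/-- The rank-one diagonal elements. -/
noncomputable def hl (u u' : Vec n F) (s : F) : Sp n F := wl u u' s * (wl u u' 1)⁻¹

theorem hl_fst {u u' : Vec n F} (h : om u u' = 1) {s : F} (hs : s ≠ 0) : ap (hl u u' s) u = s • u := by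
  have e : ap (wl u u' 1)⁻¹ u = -u' := by
    refine ap_inj (g := wl u u' 1) ?_
    rw [ap_inv', ap_neg, wl_snd h one_ne_zero]; simp
  rw [hl, ap_mul, e, ap_neg, wl_snd h hs]; simp

theorem hl_snd {u u' : Vec n F} (h : om u u' = 1) {s : F} (hs : s ≠ 0) : ap (hl u u' s) u' = s⁻¹ • u' := by
  have e : ap (wl u u' 1)⁻¹ u' = u := by
    refine ap_inj (g := wl u u' 1) ?_
    rw [ap_inv', wl_fst h one_ne_zero]; simp
  rw [hl, ap_mul, e, wl_fst h hs]

theorem hl_fix {u u' x : Vec n F} (s : F) (h : om x u = 0) (h' : om x u' = 0) : ap (hl u u' s) x = x := by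
  have e : ap (wl u u' 1)⁻¹ x = x := by
    refine ap_inj (g := wl u u' 1) ?_
    rw [ap_inv', wl_fix 1 h h']
  rw [hl, ap_mul, e, wl_fix s h h']

/-- The vectors supported on the indices at least `k`. -/
def InV (k : ℕ) (x : Vec n F) : Prop := ∀ l : Fin n, l.val < k → x (.inl l) = 0 ∧ x (.inr l) = 0

theorem InV.mono {k k' : ℕ} (h : k ≤ k') {x : Vec n F} (hx : InV k' x) : InV k x := fun l hl => hx l (by omega)

theorem InV.zero (k : ℕ) : InV k (0 : Vec n F) := fun _ _ => ⟨rfl, rfl⟩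

theorem InV.add {k : ℕ} {x y : Vec n F} (hx : InV k x) (hy : InV k y) : InV k (x + y) := fun l hl => by
  simp [hx l hl, hy l hl]

theorem InV.smul {k : ℕ} {x : Vec n F} (t : F) (hx : InV k x) : InV k (t • x) := fun l hl => by
  simp [hx l hl]

theorem InV.neg {k : ℕ} {x : Vec n F} (hx : InV k x) : InV k (-x) := fun l hl => by simp [hx l hl]

theorem inV_eV {k : ℕ} {i : Fin n} (h : k ≤ i.val) : InV k (eV i : Vec n F) := fun l hl => by
  have : l ≠ i := fun e => by subst e; omega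
  simp [Pi.single_apply, this]

theorem inV_fV {k : ℕ} {i : Fin n} (h : k ≤ i.val) : InV k (fV i : Vec n F) := fun l hl => by
  have : l ≠ i := fun e => by subst e; omega
  simp [Pi.single_apply, this]

theorem om_eV_inV {k : ℕ} {x : Vec n F} (hx : InV k x) {l : Fin n} (hl : l.val < k) :
    om (eV l) x = 0 ∧ om (fV l) x = 0 := by
  rw [eV_om, fV_om, (hx l hl).1, (hx l hl).2]; simp

/-- The elements fixing the basis vectors with index below `k`. -/
def Spk (k : ℕ) : Subgroup (Sp n F) where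
  carrier := {g | ∀ l : Fin n, l.val < k → ap g (eV l) = eV l ∧ ap g (fV l) = fV l}
  one_mem' := fun l _ => ⟨ap_one _, ap_one _⟩
  mul_mem' := fun {g h} hg hh l hl => ⟨by rw [ap_mul, (hh l hl).1, (hg l hl).1],
    by rw [ap_mul, (hh l hl).2, (hg l hl).2]⟩
  inv_mem' := fun {g} hg l hl => ⟨ap_inj (g := g) (by rw [ap_inv', (hg l hl).1]),
    ap_inj (g := g) (by rw [ap_inv', (hg l hl).2])⟩

theorem Spk_mono {k k' : ℕ} (h : k ≤ k') : (Spk k' : Subgroup (Sp n F)) ≤ Spk k :=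
  fun g hg l hl => hg l (by omega)

theorem qh_mem_Spk {k : ℕ} {w v : Vec n F} (hw : InV k w) (hv : InV k v) (c : F) : qh w v c ∈ Spk k := by
  by_cases h : om w v = 0
  · intro l hl
    exact ⟨qh_fix h c (om_eV_inV hw hl).1 (om_eV_inV hv hl).1, qh_fix h c (om_eV_inV hw hl).2 (om_eV_inV hv hl).2⟩
  · rw [qh, dif_neg h]; exact one_mem _

theorem ap_inV {k : ℕ} {g : Sp n F} (hg : g ∈ Spk k) {x : Vec n F} (hx : InV k x) : InV k (ap g x) := by
  intro l hl
  constructor
  · rw [← om_fV (ap g x) l, ← (hg l hl).2, om_ap, om_fV, (hx l hl).1]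
  · rw [← neg_inj, ← om_eV (ap g x) l, ← (hg l hl).1, om_ap, om_eV, (hx l hl).2]

/-- The plane subgroup at one index. -/
def Sj (j : Fin n) : Subgroup (Sp n F) where
  carrier := {g | ∀ l : Fin n, l ≠ j → ap g (eV l) = eV l ∧ ap g (fV l) = fV l}
  one_mem' := fun l _ => ⟨ap_one _, ap_one _⟩
  mul_mem' := fun {g h} hg hh l hl => ⟨by rw [ap_mul, (hh l hl).1, (hg l hl).1],
    by rw [ap_mul, (hh l hl).2, (hg l hl).2]⟩
  inv_mem' := fun {g} hg l hl => ⟨ap_inj (g := g) (by rw [ap_inv', (hg l hl).1]),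
    ap_inj (g := g) (by rw [ap_inv', (hg l hl).2])⟩

/-- The abelian subgroup at two consecutive indices. -/
def Mi (i : Fin n) : Subgroup (Sp n F) where
  carrier := {g | (∀ l : Fin n, ap g (eV l) = eV l) ∧
    ∀ l : Fin n, (l : ℕ) ≠ i → (l : ℕ) ≠ (i : ℕ) + 1 → ap g (fV l) = fV l}
  one_mem' := ⟨fun l => ap_one _, fun l _ _ => ap_one _⟩
  mul_mem' := fun {g h} hg hh => ⟨fun l => by rw [ap_mul, hh.1, hg.1],
    fun l h1 h2 => by rw [ap_mul, hh.2 l h1 h2, hg.2 l h1 h2]⟩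
  inv_mem' := fun {g} hg => ⟨fun l => ap_inj (g := g) (by rw [ap_inv', hg.1]),
    fun l h1 h2 => ap_inj (g := g) (by rw [ap_inv', hg.2 l h1 h2])⟩

theorem Sj_le {k : ℕ} {j : Fin n} (h : k ≤ j.val) : (Sj j : Subgroup (Sp n F)) ≤ Spk k :=
  fun g hg l hl => hg l (fun e => by subst e; omega)

theorem Mi_le {k : ℕ} {i : Fin n} (h : k ≤ i.val) : (Mi i : Subgroup (Sp n F)) ≤ Spk k :=
  fun g hg l hl => ⟨hg.1 l, hg.2 l (by omega) (by omega)⟩

/-- Supported on one index. -/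
def OnJ (j : Fin n) (x : Vec n F) : Prop := ∀ l, l ≠ j → x (.inl l) = 0 ∧ x (.inr l) = 0

theorem qh_mem_Sj {j : Fin n} {w v : Vec n F} (hw : OnJ j w) (hv : OnJ j v) (c : F) : qh w v c ∈ Sj j := by
  by_cases h : om w v = 0
  · intro l hl
    refine ⟨qh_fix h c ?_ ?_, qh_fix h c ?_ ?_⟩ <;> simp [eV_om, fV_om, hw l hl, hv l hl]
  · rw [qh, dif_neg h]; exact one_mem _

theorem onJ_eV (j : Fin n) : OnJ j (eV j : Vec n F) := fun l hl => by simp [Pi.single_apply, hl]
theorem onJ_fV (j : Fin n) : OnJ j (fV j : Vec n F) := fun l hl => by simp [Pi.single_apply, hl]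
theorem onJ_zero (j : Fin n) : OnJ j (0 : Vec n F) := fun _ _ => ⟨rfl, rfl⟩

theorem qh_mem_Mi {i : Fin n} {w v : Vec n F} (hw : ∀ l : Fin n, w (.inr l) = 0 ∧ ((l : ℕ) ≠ i → (l : ℕ) ≠ (i : ℕ) + 1 → w (.inl l) = 0))
    (hv : ∀ l : Fin n, v (.inr l) = 0 ∧ ((l : ℕ) ≠ i → (l : ℕ) ≠ (i : ℕ) + 1 → v (.inl l) = 0)) (c : F) :
    qh w v c ∈ Mi i := by
  by_cases h : om w v = 0
  · refine ⟨fun l => qh_fix h c (by rw [eV_om, (hw l).1]) (by rw [eV_om, (hv l).1]), fun l h1 h2 =>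
      qh_fix h c (by rw [fV_om, (hw l).2 h1 h2, neg_zero]) (by rw [fV_om, (hv l).2 h1 h2, neg_zero])⟩
  · rw [qh, dif_neg h]; exact one_mem _

theorem wl_mem_Sj {j : Fin n} (s : F) : wl (eV j) (fV j) s ∈ Sj j :=
  mul_mem (mul_mem (qh_mem_Sj (onJ_eV j) (onJ_zero j) _) (qh_mem_Sj (onJ_fV j) (onJ_zero j) _))
    (qh_mem_Sj (onJ_eV j) (onJ_zero j) _)

theorem hl_mem_Sj {j : Fin n} (s : F) : hl (eV j) (fV j) s ∈ Sj j :=
  mul_mem (wl_mem_Sj s) (inv_mem (wl_mem_Sj 1))

theorem om_basis (a : Fin n) : om (eV a) (fV a : Vec n F) = 1 := by simp [om_fV]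

theorem plane_eq {j : Fin n} {x : Vec n F} (hx : OnJ j x) : x = x (.inl j) • eV j + x (.inr j) • fV j := by
  funext r
  rcases r with r | r <;> by_cases h : r = j <;> first | (subst h; simp) | simp [h, hx r h]

/-- Transitivity inside a plane. -/
theorem exists_plane {j : Fin n} {x : Vec n F} (hx : OnJ j x) (h0 : x ≠ 0) :
    ∃ g ∈ Sj j, ap g (eV j) = x := by
  have e := plane_eq hx
  by_cases hb : x (.inr j) = 0
  · have ha : x (.inl j) ≠ 0 := fun ha => h0 (by rw [e, ha, hb]; simp)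
    refine ⟨hl (eV j) (fV j) (x (.inl j)), hl_mem_Sj _, ?_⟩
    rw [hl_fst (om_basis j) ha]
    conv_rhs => rw [e, hb]
    simp
  · refine ⟨qh (eV j) 0 ((1 - x (.inl j)) / x (.inr j)) * qh (fV j) 0 (x (.inr j)),
      mul_mem (qh_mem_Sj (onJ_eV j) (onJ_zero j) _) (qh_mem_Sj (onJ_fV j) (onJ_zero j) _), ?_⟩
    conv_rhs => rw [e]
    have h' : om (fV j) (eV j : Vec n F) = -1 := by rw [om_swap, om_basis]
    simp only [ap_mul, ap_qh (om_zero_right _), om_zero_right, om_self, om_add_left, om_smul_left, om_basis, h',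
      mul_zero, mul_one, smul_zero, zero_smul, add_zero]
    match_scalars <;> field_simp <;> ring

theorem split_vec {k : ℕ} (hk : k < n) {x : Vec n F} (hx : InV k x) :
    ∃ p x', OnJ (⟨k, hk⟩ : Fin n) p ∧ InV (k + 1) x' ∧ x = p + x' := by
  refine ⟨x (.inl ⟨k, hk⟩) • eV ⟨k, hk⟩ + x (.inr ⟨k, hk⟩) • fV ⟨k, hk⟩,
    x - (x (.inl ⟨k, hk⟩) • eV ⟨k, hk⟩ + x (.inr ⟨k, hk⟩) • fV ⟨k, hk⟩), fun l hl => by simp [hl], fun l hl => ?_,
    by abel⟩
  by_cases h : l = ⟨k, hk⟩
  · subst h; simp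
  · have := hx l (by have : l.val ≠ k := fun e => h (Fin.ext e); omega)
    simp [h, this]

theorem eV_ne (i : Fin n) : (eV i : Vec n F) ≠ 0 := fun e => by simpa using congrFun e (.inl i)
theorem fV_ne (i : Fin n) : (fV i : Vec n F) ≠ 0 := fun e => by simpa using congrFun e (.inr i)

/-- The generating sets. -/
def genSet (k : ℕ) : Set (Sp n F) :=
  {g | (∃ j : Fin n, k ≤ j.val ∧ g ∈ Sj j) ∨ ∃ i : Fin n, k ≤ i.val ∧ i.val + 1 < n ∧ g ∈ Mi i}

/-- The generated subgroup. -/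
abbrev Gen (k : ℕ) : Subgroup (Sp n F) := Subgroup.closure (genSet k)

theorem Gen_le (k : ℕ) : (Gen k : Subgroup (Sp n F)) ≤ Spk k := by
  rw [Subgroup.closure_le]
  rintro g (⟨j, hj, hg⟩ | ⟨i, hi, -, hg⟩)
  exacts [Sj_le hj hg, Mi_le hi hg]

theorem Gen_mono {k k' : ℕ} (h : k ≤ k') : (Gen k' : Subgroup (Sp n F)) ≤ Gen k :=
  Subgroup.closure_mono fun g hg => hg.imp (fun ⟨j, hj, hg⟩ => ⟨j, by omega, hg⟩)
    fun ⟨i, hi, hg⟩ => ⟨i, by omega, hg⟩

theorem Sj_le_Gen {k : ℕ} {j : Fin n} (h : k ≤ j.val) : (Sj j : Subgroup (Sp n F)) ≤ Gen k :=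
  fun g hg => Subgroup.subset_closure (Or.inl ⟨j, h, hg⟩)

theorem Mi_le_Gen {k : ℕ} {i : Fin n} (h : k ≤ i.val) (h' : i.val + 1 < n) :
    (Mi i : Subgroup (Sp n F)) ≤ Gen k :=
  fun g hg => Subgroup.subset_closure (Or.inr ⟨i, h, h', hg⟩)

theorem qh_eV_mem {k : ℕ} (hk : k + 1 < n) :
    qh (eV (⟨k, by omega⟩ : Fin n)) (eV (⟨k + 1, hk⟩ : Fin n)) (0 : F) ∈ Gen k := by
  refine Mi_le_Gen (i := ⟨k, by omega⟩) le_rfl hk (qh_mem_Mi (fun l => ?_) (fun l => ?_) 0) <;>
    refine ⟨by simp, fun h1 h2 => ?_⟩ <;>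
    (have : (l : ℕ) ≠ k ∧ (l : ℕ) ≠ k + 1 := ⟨h1, h2⟩; simp [Pi.single_apply, Fin.ext_iff, this])

set_option maxHeartbeats 1000000 in
theorem gen_step {k : ℕ} (hk : k < n) (htr : ∀ h : k + 1 < n, ∀ x : Vec n F, InV (k + 1) x → x ≠ 0 →
      ∃ g ∈ Gen (k + 1), ap g (eV ⟨k + 1, h⟩) = x)
    (hsp : (Spk (k + 1) : Subgroup (Sp n F)) ≤ Gen (k + 1)) :
    (∀ x : Vec n F, InV k x → x ≠ 0 → ∃ g ∈ Gen k, ap g (eV ⟨k, hk⟩) = x) ∧
      (Spk k : Subgroup (Sp n F)) ≤ Gen k := by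
  set a : Vec n F := eV ⟨k, hk⟩ with ha
  set a' : Vec n F := fV ⟨k, hk⟩ with ha'
  have aa' : om a a' = 1 := om_basis _
  have a'a : om a' a = -1 := by rw [om_swap, aa']
  have av : ∀ {v : Vec n F}, InV (k + 1) v → om a v = 0 ∧ om a' v = 0 := fun hv =>
    om_eV_inV hv (show k < k + 1 by omega)
  have va : ∀ {v : Vec n F}, InV (k + 1) v → om v a = 0 ∧ om v a' = 0 := fun hv =>
    ⟨by rw [om_swap, (av hv).1, neg_zero], by rw [om_swap, (av hv).2, neg_zero]⟩
  have hQ : ∀ v c, InV (k + 1) v → qh a v c ∈ Gen k := by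
    intro v c hv
    rw [show qh a v c = qh a v 0 * qh a 0 c by
      rw [qh_mul (av hv).1 (om_zero_right _)]; simp [om_zero_left]]
    refine mul_mem ?_ (Sj_le_Gen (j := ⟨k, hk⟩) le_rfl (qh_mem_Sj (onJ_eV _) (onJ_zero _) c))
    by_cases hv0 : v = 0
    · rw [hv0, qh_zero]; exact one_mem _
    by_cases hk1 : k + 1 < n
    · obtain ⟨g, hg, e⟩ := htr hk1 v hv hv0
      have hfix : ap g a = a := (Gen_le _ hg ⟨k, hk⟩ (by simp)).1
      have := qh_conj (av (inV_eV (i := (⟨k + 1, hk1⟩ : Fin n)) le_rfl)).1 g (0 : F)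
      rw [hfix, e] at this
      rw [← this]
      exact mul_mem (mul_mem (Gen_mono (Nat.le_succ k) hg) (qh_eV_mem hk1)) (inv_mem (Gen_mono (Nat.le_succ k) hg))
    · refine absurd (funext fun r => ?_) hv0
      rcases r with l | l
      · exact (hv l (by omega)).1
      · exact (hv l (by omega)).2
  have hR : ∀ v c, InV (k + 1) v → qh a' v c ∈ Gen k := by
    intro v c hv
    set w := wl a a' 1
    have hw : w ∈ Gen k := Sj_le_Gen (j := ⟨k, hk⟩) le_rfl (wl_mem_Sj _)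
    have := qh_conj (av hv).1 w c
    rw [wl_fst aa' one_ne_zero, inv_one, one_smul, wl_fix 1 (va hv).1 (va hv).2] at this
    rw [← this]
    exact mul_mem (mul_mem hw (hQ v c hv)) (inv_mem hw)
  have htr' : ∀ x : Vec n F, InV k x → x ≠ 0 → ∃ g ∈ Gen k, ap g a = x := by
    have plane : ∀ p x' : Vec n F, OnJ ⟨k, hk⟩ p → InV (k + 1) x' → p ≠ 0 → ∃ g ∈ Gen k, ap g a = p + x' := by
      intro p x' hp hx' hp0
      obtain ⟨h, hh, e⟩ := exists_plane hp hp0
      refine ⟨h * qh a' x' 0, mul_mem (Sj_le_Gen (j := ⟨k, hk⟩) le_rfl hh) (hR _ _ hx'), ?_⟩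
      have hfix : ap h x' = x' := by
        refine (funext fun r => ?_)
        have hh' : h ∈ Sj ⟨k, hk⟩ := hh
        rcases r with l | l <;> by_cases hl : l = ⟨k, hk⟩
        · subst hl
          rw [(hx' _ (by simp)).1]
          obtain ⟨y, hy, hfy⟩ : ∃ y : Vec n F, OnJ ⟨k, hk⟩ y ∧ ap h y = fV ⟨k, hk⟩ := by
            refine ⟨ap h⁻¹ (fV ⟨k, hk⟩), fun l hl => ?_, ap_inv' _ _⟩
            constructor
            · rw [← om_fV (ap h⁻¹ (fV (⟨k, hk⟩ : Fin n))) l, ← (inv_mem hh' l hl).2, om_ap, om_fV]; simp [hl]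
            · rw [← neg_inj, ← om_eV (ap h⁻¹ (fV (⟨k, hk⟩ : Fin n))) l, ← (inv_mem hh' l hl).1, om_ap, om_eV]; simp [hl]
          rw [← om_fV (ap h x') ⟨k, hk⟩, ← hfy, om_ap, plane_eq hy, om_add_right, om_smul_right, om_smul_right,
            (va hx').1, (va hx').2, mul_zero, mul_zero, add_zero]
        · rw [← om_fV (ap h x') l, ← (hh' l hl).2, om_ap, om_fV]
        · subst hl
          rw [(hx' _ (by simp)).2, ← neg_inj, neg_zero, ← om_eV (ap h x') ⟨k, hk⟩]
          obtain ⟨y, hy, hfy⟩ : ∃ y : Vec n F, OnJ ⟨k, hk⟩ y ∧ ap h y = eV ⟨k, hk⟩ := by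
            refine ⟨ap h⁻¹ (eV ⟨k, hk⟩), fun l hl => ?_, ap_inv' _ _⟩
            constructor
            · rw [← om_fV (ap h⁻¹ (eV (⟨k, hk⟩ : Fin n))) l, ← (inv_mem hh' l hl).2, om_ap, om_fV]; simp [hl]
            · rw [← neg_inj, ← om_eV (ap h⁻¹ (eV (⟨k, hk⟩ : Fin n))) l, ← (inv_mem hh' l hl).1, om_ap, om_eV]; simp [hl]
          rw [← hfy, om_ap, plane_eq hy, om_add_right, om_smul_right, om_smul_right, (va hx').1, (va hx').2,
            mul_zero, mul_zero, add_zero]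
        · rw [← neg_inj, ← om_eV (ap h x') l, ← (hh' l hl).1, om_ap, om_eV]
      rw [ap_mul, ap_qh (av hx').2, aa', (av hx').1, zero_smul, one_smul, mul_one, zero_smul, add_zero, add_zero,
        ap_add, hfix, e]
    intro x hx hx0
    obtain ⟨p, x', hp, hx', rfl⟩ := split_vec hk hx
    by_cases hp0 : p = 0
    · subst hp0
      rw [zero_add] at hx0 ⊢
      by_cases hk1 : k + 1 < n
      · obtain ⟨g, hg, e⟩ := htr hk1 x' hx' hx0
        set b : Vec n F := eV ⟨k + 1, hk1⟩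
        have hb : InV (k + 1) (b : Vec n F) := inV_eV le_rfl
        have hb' : InV (k + 1) (fV (⟨k + 1, hk1⟩ : Fin n) : Vec n F) := inV_fV le_rfl
        obtain ⟨g₁, hg₁, e₁⟩ := plane a b (onJ_eV _) hb (eV_ne _)
        have e2 : ap (qh a (fV ⟨k + 1, hk1⟩) 0) b = a + b := by
          rw [ap_qh (av hb').1, (va hb).1, om_basis]; simp [add_comm]
        refine ⟨g * ((qh a (fV ⟨k + 1, hk1⟩) 0)⁻¹ * g₁), mul_mem (Gen_mono (Nat.le_succ k) hg)
          (mul_mem (inv_mem (hQ _ _ hb')) hg₁), ?_⟩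
        rw [ap_mul, ap_mul, e₁, ← e2, ap_inv, e]
      · refine absurd (funext fun r => ?_) hx0
        rcases r with l | l
        · exact (hx' l (by omega)).1
        · exact (hx' l (by omega)).2
    · exact plane p x' hp hx' hp0
  refine ⟨htr', fun g hg => ?_⟩
  obtain ⟨g₀, hg₀, e₀⟩ := htr' (ap g a) (ap_inV hg (inV_eV le_rfl)) (fun e => eV_ne (F := F) (⟨k, hk⟩ : Fin n)
    (ap_inj (g := g) (e.trans (ap_zero g).symm)))
  set g₁ := g₀⁻¹ * g with hg₁
  have hg₁k : g₁ ∈ Spk k := mul_mem (inv_mem (Gen_le _ hg₀)) hg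
  have hg₁a : ap g₁ a = a := by rw [hg₁, ap_mul, ← e₀, ap_inv]
  obtain ⟨p, v, hp, hv, e⟩ := split_vec hk (ap_inV hg₁k (inV_fV (F := F) (i := (⟨k, hk⟩ : Fin n)) le_rfl))
  have hcoef : p (.inr ⟨k, hk⟩) = 1 := by
    have h1 : om a (ap g₁ a') = 1 := by
      nth_rw 1 [← hg₁a]; rw [om_ap, aa']
    rw [ha', e, om_add_right, (av hv).1, add_zero, ha, eV_om] at h1
    exact h1
  set lam := p (.inl ⟨k, hk⟩)
  have hq : ap (qh a (-v) (-lam)) a' = ap g₁ a' := by
    rw [ap_qh (av hv.neg).1, a'a, (av hv.neg).2, show ap g₁ a' = _ from e, plane_eq hp, hcoef]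
    module
  have hfix : ap (qh a (-v) (-lam)) a = a := qh_fix (av hv.neg).1 _ (om_self a) (av hv.neg).1
  have hmem : (qh a (-v) (-lam))⁻¹ * g₁ ∈ Spk (k + 1) := by
    intro l hl
    rcases Nat.lt_succ_iff_lt_or_eq.1 hl with hl | hl
    · exact (mul_mem (inv_mem (Gen_le _ (hQ _ _ hv.neg))) hg₁k : _ ∈ Spk k) l hl
    · rw [show l = ⟨k, hk⟩ from Fin.ext hl, ← ha, ← ha', ap_mul (qh a (-v) (-lam))⁻¹ g₁ a,
        ap_mul (qh a (-v) (-lam))⁻¹ g₁ a', hg₁a]
      exact ⟨ap_inj (g := qh a (-v) (-lam)) (by rw [ap_inv', hfix]), by rw [← hq, ap_inv]⟩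
  rw [show g = g₀ * (qh a (-v) (-lam) * ((qh a (-v) (-lam))⁻¹ * g₁)) by rw [hg₁]; group]
  exact mul_mem hg₀ (mul_mem (hQ _ _ hv.neg) (Gen_mono (Nat.le_succ k) (hsp hmem)))

theorem gen_all : ∀ d k, k + d = n → (∀ (h : k < n), ∀ x : Vec n F, InV k x → x ≠ 0 →
      ∃ g ∈ Gen k, ap g (eV ⟨k, h⟩) = x) ∧ (Spk k : Subgroup (Sp n F)) ≤ Gen k := by
  intro d
  induction d with
  | zero =>
    intro k hk
    refine ⟨fun h => absurd h (by omega), fun g hg => ?_⟩
    rw [show g = 1 from ext_basis (fun i => by rw [(hg i (by omega)).1, ap_one])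
      (fun i => by rw [(hg i (by omega)).2, ap_one])]
    exact one_mem _
  | succ d ih =>
    intro k hk
    obtain ⟨h1, h2⟩ := ih (k + 1) (by omega)
    obtain ⟨h3, h4⟩ := gen_step (F := F) (show k < n by omega) h1 h2
    exact ⟨fun _ => h3, h4⟩

theorem Gen_eq {k : ℕ} (hk : k ≤ n) : (Gen k : Subgroup (Sp n F)) = Spk k :=
  le_antisymm (Gen_le k) (gen_all (n - k) k (by omega)).2

theorem trans_vec {k : ℕ} (hk : k < n) {x : Vec n F} (hx : InV k x) (h0 : x ≠ 0) :
    ∃ g ∈ Spk k, ap g (eV ⟨k, hk⟩) = x := by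
  obtain ⟨g, hg, e⟩ := (gen_all (F := F) (n - k) k (by omega)).1 hk x hx h0
  exact ⟨g, Gen_le k hg, e⟩

/-- The stabiliser of the first basis vector. -/
theorem stab_decomp {k : ℕ} (hk : k < n) {g : Sp n F} (hg : g ∈ Spk k) (ha : ap g (eV ⟨k, hk⟩) = eV ⟨k, hk⟩) :
    ∃ v c, InV (k + 1) v ∧ ∃ g' ∈ Spk (k + 1), g = qh (eV ⟨k, hk⟩) v c * g' := by
  set a : Vec n F := eV ⟨k, hk⟩ with ha_def
  set a' : Vec n F := fV ⟨k, hk⟩ with ha'
  have aa' : om a a' = 1 := om_basis _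
  have a'a : om a' a = -1 := by rw [om_swap, aa']
  obtain ⟨p, v, hp, hv, e⟩ := split_vec hk (ap_inV hg (inV_fV (F := F) (i := (⟨k, hk⟩ : Fin n)) le_rfl))
  have av : ∀ {v : Vec n F}, InV (k + 1) v → om a v = 0 ∧ om a' v = 0 := fun hv =>
    om_eV_inV hv (show k < k + 1 by omega)
  have hcoef : p (.inr ⟨k, hk⟩) = 1 := by
    have h1 : om a (ap g a') = 1 := by
      nth_rw 1 [← ha]; rw [om_ap, aa']
    rw [ha', e, om_add_right, (av hv).1, add_zero, ha_def, eV_om] at h1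
    exact h1
  set lam := p (.inl ⟨k, hk⟩)
  have hq : ap (qh a (-v) (-lam)) a' = ap g a' := by
    rw [ap_qh (av hv.neg).1, a'a, (av hv.neg).2, show ap g a' = _ from e, plane_eq hp, hcoef]
    module
  have hfix : ap (qh a (-v) (-lam)) a = a := qh_fix (av hv.neg).1 _ (om_self a) (av hv.neg).1
  refine ⟨-v, -lam, hv.neg, (qh a (-v) (-lam))⁻¹ * g, fun l hl => ?_, (mul_inv_cancel_left _ _).symm⟩
  rcases Nat.lt_succ_iff_lt_or_eq.1 hl with hl | hl
  · exact (mul_mem (inv_mem (qh_mem_Spk (inV_eV (i := (⟨k, hk⟩ : Fin n)) le_rfl) (hv.neg.mono (Nat.le_succ k)) _)) hg : _ ∈ Spk k) l hl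
  · rw [show l = ⟨k, hk⟩ from Fin.ext hl, ← ha_def, ← ha', ap_mul, ap_mul, ha]
    exact ⟨ap_inj (g := qh a (-v) (-lam)) (by rw [ap_inv', hfix]), by rw [← hq, ap_inv]⟩

end Cfsg.Agent.SlimSp
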