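import Mathlib
import Cfsg.Agent.Lib.Recog.SlimSp.Basic

/-! Amalgam data over the symplectic group and unique lifts. -/

set_option autoImplicit false

namespace Cfsg.Agent.SlimSp

open Matrix

variable {F : Type*} [Field F] {n : ℕ} {K : Type*} [Group K]

/-- The projection is injective on a subgroup. -/
def Inj (θ : K →* Sp n F) (D : Subgroup K) : Prop := ∀ x ∈ D, θ x = 1 → x = 1

variable {θ : K →* Sp n F} {D D' : Subgroup K}

theorem Inj.eq (h : Inj θ D) {x y : K} (hx : x ∈ D) (hy : y ∈ D) (e : θ x = θ y) : x = y :=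
  mul_inv_eq_one.1 (h _ (mul_mem hx (inv_mem hy)) (by rw [map_mul, map_inv, e, mul_inv_cancel]))

theorem Inj.mono (h : Inj θ D) (hle : D' ≤ D) : Inj θ D' := fun x hx => h x (hle hx)

theorem Inj.commute (h : Inj θ D) {x y : K} (hx : x ∈ D) (hy : y ∈ D) (e : Commute (θ x) (θ y)) : Commute x y :=
  h.eq (mul_mem hx hy) (mul_mem hy hx) (by rw [map_mul, map_mul, e.eq])

/-- The data of the amalgam. -/
structure Amal (θ : K →* Sp n F) (GS GM : Fin n → Subgroup K) : Prop where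
  mapS : ∀ j, (GS j).map θ = Sj j
  mapM : ∀ i : Fin n, i.val + 1 < n → (GM i).map θ = Mi i
  injS : ∀ j, Inj θ (GS j)
  injSS : ∀ j l, j ≠ l → Inj θ (GS j ⊔ GS l)
  injMM : ∀ i i' : Fin n, i ≠ i' → i.val + 1 < n → i'.val + 1 < n → Inj θ (GM i ⊔ GM i')
  injMS : ∀ i j : Fin n, i.val + 1 < n → Inj θ (GM i ⊔ GS j)

/-- The generators of index at least `k`. -/
def gamSet (GS GM : Fin n → Subgroup K) (k : ℕ) : Set K :=
  {x | (∃ j : Fin n, k ≤ j.val ∧ x ∈ GS j) ∨ ∃ i : Fin n, k ≤ i.val ∧ i.val + 1 < n ∧ x ∈ GM i}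

/-- The group generated by the data of index at least `k`. -/
abbrev Gam (GS GM : Fin n → Subgroup K) (k : ℕ) : Subgroup K := Subgroup.closure (gamSet GS GM k)

variable {GS GM : Fin n → Subgroup K}

theorem GS_le_Gam {k : ℕ} {j : Fin n} (h : k ≤ j.val) : GS j ≤ Gam GS GM k :=
  fun _ hx => Subgroup.subset_closure (Or.inl ⟨j, h, hx⟩)

theorem GM_le_Gam {k : ℕ} {i : Fin n} (h : k ≤ i.val) (h' : i.val + 1 < n) : GM i ≤ Gam GS GM k :=
  fun _ hx => Subgroup.subset_closure (Or.inr ⟨i, h, h', hx⟩)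

theorem Gam_mono {k k' : ℕ} (h : k ≤ k') : Gam GS GM k' ≤ Gam GS GM k :=
  Subgroup.closure_mono fun _ hg => hg.imp (fun ⟨j, hj, hg⟩ => ⟨j, by omega, hg⟩)
    fun ⟨i, hi, hg⟩ => ⟨i, by omega, hg⟩

variable (A : Amal θ GS GM)
include A

theorem Amal.mem_Sj {j : Fin n} {x : K} (hx : x ∈ GS j) : θ x ∈ Sj j := by
  rw [← A.mapS j]; exact ⟨x, hx, rfl⟩

theorem Amal.mem_Mi {i : Fin n} (hi : i.val + 1 < n) {x : K} (hx : x ∈ GM i) : θ x ∈ Mi i := by
  rw [← A.mapM i hi]; exact ⟨x, hx, rfl⟩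

theorem Amal.map_Gam {k : ℕ} (hk : k ≤ n) : (Gam GS GM k).map θ = Spk k := by
  rw [← Gen_eq hk]
  refine le_antisymm ?_ ?_
  · rw [MonoidHom.map_closure, Subgroup.closure_le]
    rintro _ ⟨x, (⟨j, hj, hx⟩ | ⟨i, hi, hi', hx⟩), rfl⟩
    exacts [Sj_le_Gen hj (A.mem_Sj hx), Mi_le_Gen hi hi' (A.mem_Mi hi' hx)]
  · rw [Subgroup.closure_le]
    rintro g (⟨j, hj, hg⟩ | ⟨i, hi, hi', hg⟩)
    · rw [← A.mapS j] at hg; exact Subgroup.map_mono (GS_le_Gam hj) hg
    · rw [← A.mapM i hi'] at hg; exact Subgroup.map_mono (GM_le_Gam hi hi') hg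

omit A

open scoped Classical in
/-- The chosen lift in a subgroup. -/
noncomputable def lift (θ : K →* Sp n F) (D : Subgroup K) (g : Sp n F) : K :=
  if h : g ∈ D.map θ then (Subgroup.mem_map.1 h).choose else 1

theorem lift_mem (g : Sp n F) : lift θ D g ∈ D := by
  rw [lift]
  split_ifs with h
  · exact (Subgroup.mem_map.1 h).choose_spec.1
  · exact one_mem _

theorem lift_spec {g : Sp n F} (h : g ∈ D.map θ) : θ (lift θ D g) = g := by
  rw [lift, dif_pos h]
  exact (Subgroup.mem_map.1 h).choose_spec.2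

theorem lift_unique (hD : Inj θ D) {x : K} (hx : x ∈ D) : lift θ D (θ x) = x :=
  hD.eq (lift_mem _) hx (lift_spec ⟨x, hx, rfl⟩)

theorem lift_eq (hD : Inj θ D) {x : K} (hx : x ∈ D) {g : Sp n F} (e : θ x = g) : x = lift θ D g := by
  rw [← e, lift_unique hD hx]

theorem lift_one (hD : Inj θ D) : lift θ D 1 = 1 := (lift_eq hD (one_mem D) (map_one θ)).symm

theorem lift_mul (hD : Inj θ D) {g h : Sp n F} (hg : g ∈ D.map θ) (hh : h ∈ D.map θ) :
    lift θ D g * lift θ D h = lift θ D (g * h) :=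
  lift_eq hD (mul_mem (lift_mem g) (lift_mem h)) (by rw [map_mul, lift_spec hg, lift_spec hh])

theorem lift_inv (hD : Inj θ D) {g : Sp n F} (hg : g ∈ D.map θ) : (lift θ D g)⁻¹ = lift θ D g⁻¹ :=
  lift_eq hD (inv_mem (lift_mem g)) (by rw [map_inv, lift_spec hg])

theorem lift_eq_lift (hD : Inj θ D) {D₁ : Subgroup K} (hle : D₁ ≤ D) {g : Sp n F} (hg : g ∈ D₁.map θ) :
    lift θ D₁ g = lift θ D g :=
  lift_eq hD (hle (lift_mem g)) (lift_spec hg)

/-- Vectors with zero plane part are fixed. -/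
theorem Sj_fix {j : Fin n} {g : Sp n F} (hg : g ∈ Sj j) {x : Vec n F} (h1 : x (.inl j) = 0) (h2 : x (.inr j) = 0) :
    ap g x = x := by
  have hinv : ∀ l, l ≠ j → ap g⁻¹ (eV l) = eV l ∧ ap g⁻¹ (fV l) = fV l := inv_mem hg
  have key : ∀ y : Vec n F, OnJ j y → om x y = 0 := fun y hy => by
    rw [plane_eq hy, om_add_right, om_smul_right, om_smul_right, om_eV, om_fV, h1, h2]; simp
  have hon : ∀ y : Vec n F, OnJ j y → OnJ j (ap g⁻¹ y) := fun y hy l hl => by
    constructor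
    · rw [← om_fV (ap g⁻¹ y) l, ← (hinv l hl).2, om_ap, om_fV, (hy l hl).1]
    · rw [← neg_inj, ← om_eV (ap g⁻¹ y) l, ← (hinv l hl).1, om_ap, om_eV, (hy l hl).2]
  have conv : ∀ y, om (ap g x) y = om x (ap g⁻¹ y) := fun y => by
    conv_rhs => rw [← om_ap g, ap_inv']
  funext r
  rcases r with l | l <;> by_cases hl : l = j
  · subst hl; rw [h1, ← om_fV (ap g x) l, conv, key _ (hon _ (onJ_fV l))]
  · rw [← om_fV (ap g x) l, conv, (hinv l hl).2, om_fV]
  · subst hl; rw [h2, ← neg_inj, ← om_eV (ap g x) l, conv, key _ (hon _ (onJ_eV l)), neg_zero]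
  · rw [← neg_inj, ← om_eV (ap g x) l, conv, (hinv l hl).1, om_eV]

theorem Sj_onJ {j : Fin n} {g : Sp n F} (hg : g ∈ Sj j) {y : Vec n F} (hy : OnJ j y) : OnJ j (ap g y) :=
  fun l hl => by
    constructor
    · rw [← om_fV (ap g y) l, ← (hg l hl).2, om_ap, om_fV, (hy l hl).1]
    · rw [← neg_inj, ← om_eV (ap g y) l, ← (hg l hl).1, om_ap, om_eV, (hy l hl).2]

theorem Sj_comm_Spk {j : Fin n} {g h : Sp n F} (hg : g ∈ Sj j) (hh : h ∈ Spk (j.val + 1)) : Commute g h := by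
  have hplane : ∀ y : Vec n F, OnJ j y → ap h y = y := fun y hy => by
    rw [plane_eq hy, ap_add, ap_smul, ap_smul, (hh j (by omega)).1, (hh j (by omega)).2]
  refine ext_basis (fun i => ?_) (fun i => ?_) <;> rw [ap_mul, ap_mul]
  · by_cases hi : i = j
    · subst hi; rw [(hh i (by omega)).1, hplane _ (Sj_onJ hg (onJ_eV i))]
    · rw [(hg i hi).1]
      by_cases hlt : i.val < j.val + 1
      · rw [(hh i hlt).1, (hg i hi).1]
      · have := ap_inV hh (inV_eV (F := F) (i := i) (show j.val + 1 ≤ i.val by omega)) j (by omega)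
        rw [Sj_fix hg this.1 this.2]
  · by_cases hi : i = j
    · subst hi; rw [(hh i (by omega)).2, hplane _ (Sj_onJ hg (onJ_fV i))]
    · rw [(hg i hi).2]
      by_cases hlt : i.val < j.val + 1
      · rw [(hh i hlt).2, (hg i hi).2]
      · have := ap_inV hh (inV_fV (F := F) (i := i) (show j.val + 1 ≤ i.val by omega)) j (by omega)
        rw [Sj_fix hg this.1 this.2]

/-- Shape of the image of the second half under the abelian subgroup. -/
theorem Mi_shape {i : Fin n} (hi : i.val + 1 < n) {g : Sp n F} (hg : g ∈ Mi i) :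
    ∃ α β : F, ap g (fV i) = fV i + α • eV i + β • eV ⟨i.val + 1, hi⟩ := by
  refine ⟨ap g (fV i) (.inl i), ap g (fV i) (.inl ⟨i.val + 1, hi⟩), ?_⟩
  have hne : i ≠ ⟨i.val + 1, hi⟩ := fun e => by simpa using congrArg Fin.val e
  funext r
  rcases r with l | l
  · by_cases h1 : l = i
    · subst h1; simp [hne]
    by_cases h2 : l = ⟨i.val + 1, hi⟩
    · subst h2; simp [hne.symm]
    · have : ap g (fV i) (.inl l) = 0 := by
        rw [← om_fV (ap g (fV i)) l, ← hg.2 l (fun e => h1 (Fin.ext e)) (fun e => h2 (Fin.ext e)), om_ap, om_fV]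
        simp [h1]
      simp [this, h1, h2]
  · have : ap g (fV i) (.inr l) = fV i (.inr l) := by
      rw [← neg_inj, ← om_eV (ap g (fV i)) l, ← hg.1 l, om_ap, om_eV]
    simp [this]

end Cfsg.Agent.SlimSp
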