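import Mathlib
import Cfsg.Agent.Lib.Recog.SlimSp.Lift

/-! The inductive step: elements and relations. -/

set_option autoImplicit false
set_option linter.unusedSectionVars false

namespace Cfsg.Agent.SlimSp

open Matrix

variable {F : Type*} [Field F] {n : ℕ} {K : Type*} [Group K] {θ : K →* Sp n F} {GS GM : Fin n → Subgroup K}

theorem qh_shift {w v : Vec n F} (h : om w v = 0) (t c : F) : qh w (v + t • w) c = qh w v (c + 2 * t) := by
  refine ext_ap fun x => ?_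
  rw [ap_qh (by rw [om_add_right, h, om_smul_right, om_self]; ring), ap_qh h]
  simp only [om_add_right, om_smul_right]; module

theorem qh_expand0 {u v : Vec n F} (h : om u v = 0) (s c : F) :
    qh (u + s • v) 0 c = qh u 0 c * qh u ((c * s) • v) 0 * qh v 0 (c * s * s) := by
  refine ext_ap fun x => ?_
  have h' : om v u = 0 := by rw [om_swap, h, neg_zero]
  rw [ap_mul, ap_mul, ap_qh (om_zero_right v), ap_qh (w := u) (v := (c * s) • v) (by rw [om_smul_right, h, mul_zero]),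
    ap_qh (om_zero_right u), ap_qh (om_zero_right _)]
  simp only [om_add_left, om_add_right, om_smul_left, om_smul_right, om_zero_right, om_zero_left, om_self, h, h']
  module

theorem qh_split {u v w : Vec n F} (huv : om u v = 0) (huw : om u w = 0) (hvw : om v w = 0) (s : F) :
    qh (u + s • v) w 0 = qh u w 0 * qh v (s • w) 0 := by
  refine ext_ap fun x => ?_
  have h1 : om v u = 0 := by rw [om_swap, huv, neg_zero]
  have h2 : om w u = 0 := by rw [om_swap, huw, neg_zero]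
  rw [ap_mul, ap_qh (w := v) (v := s • w) (by rw [om_smul_right, hvw, mul_zero]), ap_qh huw,
    ap_qh (by rw [om_add_left, om_smul_left, huw, hvw]; ring)]
  simp only [om_add_left, om_add_right, om_smul_left, om_smul_right, om_self, huw, hvw, h1, h2]
  module

theorem qh_hyp {u v w : Vec n F} (huv : om u v = 1) (huw : om u w = 0) (hvw : om v w = 0) (s : F) :
    qh (u + s • v) w 0 = qh v (s • w) 0 * qh w 0 (-s) * qh u w 0 ∧
      qh (u + s • v) w 0 = qh u w 0 * (qh v (s • w) 0 * qh w 0 s) := by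
  have h1 : om v u = -1 := by rw [om_swap, huv]
  have h2 : om w u = 0 := by rw [om_swap, huw, neg_zero]
  have h3 : om w v = 0 := by rw [om_swap, hvw, neg_zero]
  have e0 : om (u + s • v) w = 0 := by rw [om_add_left, om_smul_left, huw, hvw]; ring
  have e1 : om v (s • w) = 0 := by rw [om_smul_right, hvw, mul_zero]
  constructor <;> refine ext_ap fun x => ?_ <;>
    simp only [ap_mul, ap_qh e0, ap_qh huw, ap_qh e1, ap_qh (om_zero_right w), om_add_left, om_add_right,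
      om_smul_left, om_smul_right, om_zero_right, om_zero_left, om_self, huv, huw, hvw, h1, h2, h3] <;>
    module

theorem hl_mul {j : Fin n} {r r' : F} (hr : r ≠ 0) (hr' : r' ≠ 0) :
    hl (eV j) (fV j) r * hl (eV j) (fV j) r' = hl (eV j) (fV j) (r * r') := by
  have h := om_basis (F := F) j
  refine ext_basis (fun i => ?_) (fun i => ?_) <;> rw [ap_mul] <;> by_cases hi : i = j
  · subst hi
    rw [hl_fst h hr', ap_smul, hl_fst h hr, hl_fst h (mul_ne_zero hr hr'), smul_smul, mul_comm]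
  · rw [(hl_mem_Sj (j := j) r' i hi).1, (hl_mem_Sj (j := j) r i hi).1, (hl_mem_Sj (j := j) (r * r') i hi).1]
  · subst hi
    rw [hl_snd h hr', ap_smul, hl_snd h hr, hl_snd h (mul_ne_zero hr hr'), smul_smul, mul_inv, mul_comm]
  · rw [(hl_mem_Sj (j := j) r' i hi).2, (hl_mem_Sj (j := j) r i hi).2, (hl_mem_Sj (j := j) (r * r') i hi).2]

theorem hl_wl {j : Fin n} {r : F} (hr : r ≠ 0) :
    wl (eV j) (fV j) 1 * hl (eV j) (fV j) r * (wl (eV j) (fV j) 1)⁻¹ = hl (eV j) (fV j) r⁻¹ := by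
  have h := om_basis (F := F) j
  rw [mul_inv_eq_iff_eq_mul]
  refine ext_basis (fun i => ?_) (fun i => ?_) <;> rw [ap_mul, ap_mul] <;> by_cases hi : i = j
  · subst hi
    rw [hl_fst h hr, ap_smul, wl_fst h one_ne_zero, ap_smul, hl_snd h (inv_ne_zero hr), inv_inv]; module
  · rw [(hl_mem_Sj (j := j) r i hi).1, (wl_mem_Sj (j := j) 1 i hi).1, (hl_mem_Sj (j := j) r⁻¹ i hi).1]
  · subst hi
    rw [hl_snd h hr, ap_smul, wl_snd h one_ne_zero, ap_smul, hl_fst h (inv_ne_zero hr)]; module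
  · rw [(hl_mem_Sj (j := j) r i hi).2, (wl_mem_Sj (j := j) 1 i hi).2, (hl_mem_Sj (j := j) r⁻¹ i hi).2]

/-- The hypotheses of the step. -/
structure Ctx (θ : K →* Sp n F) (GS GM : Fin n → Subgroup K) (k : ℕ) : Prop where
  amal : Amal θ GS GM
  hk : k + 1 < n
  ih : Inj θ (Gam GS GM (k + 1))
  big : ∃ c : F, c ≠ 0 ∧ c ≠ 1

namespace Ctx

variable {k : ℕ} (X : Ctx θ GS GM k)
include X

/-- First index. -/
abbrev ia : Fin n := ⟨k, Nat.lt_of_succ_lt X.hk⟩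
/-- Second index. -/
abbrev ib : Fin n := ⟨k + 1, X.hk⟩
/-- `a`. -/
abbrev a : Vec n F := eV X.ia
/-- `a'`. -/
abbrev a' : Vec n F := fV X.ia
/-- `b`. -/
abbrev b : Vec n F := eV X.ib
/-- `b'`. -/
abbrev b' : Vec n F := fV X.ib

theorem ne_ab : X.ia ≠ X.ib := fun e => by simpa using congrArg Fin.val e

theorem tbl : om X.a X.a' = 1 ∧ om X.a' X.a = -1 ∧ om X.b X.b' = 1 ∧ om X.b' X.b = -1 ∧
    om X.a X.b = 0 ∧ om X.b X.a = 0 ∧ om X.a X.b' = 0 ∧ om X.b' X.a = 0 ∧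
    om X.a' X.b = 0 ∧ om X.b X.a' = 0 ∧ om X.a' X.b' = 0 ∧ om X.b' X.a' = 0 := by
  have h1 := X.ne_ab
  have h2 := X.ne_ab.symm
  simp [eV_om, fV_om, om_eV, om_fV, Ctx.a, Ctx.a', Ctx.b, Ctx.b']

theorem ab : om X.a X.b = 0 := X.tbl.2.2.2.2.1
theorem ab' : om X.a X.b' = 0 := X.tbl.2.2.2.2.2.2.1
theorem a'b : om X.a' X.b = 0 := X.tbl.2.2.2.2.2.2.2.2.1
theorem a'b' : om X.a' X.b' = 0 := X.tbl.2.2.2.2.2.2.2.2.2.2.1
theorem aa' : om X.a X.a' = 1 := X.tbl.1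
theorem bb' : om X.b X.b' = 1 := X.tbl.2.2.1

theorem a_tb (t : F) : om X.a (t • X.b) = 0 := by rw [om_smul_right, X.ab, mul_zero]
theorem a_tb' (t : F) : om X.a (t • X.b') = 0 := by rw [om_smul_right, X.ab', mul_zero]
theorem a'_tb (t : F) : om X.a' (t • X.b) = 0 := by rw [om_smul_right, X.a'b, mul_zero]
theorem a'_tb' (t : F) : om X.a' (t • X.b') = 0 := by rw [om_smul_right, X.a'b', mul_zero]

theorem perp {v : Vec n F} (hv : InV (k + 1) v) :
    om X.a v = 0 ∧ om X.a' v = 0 ∧ om v X.a = 0 ∧ om v X.a' = 0 := by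
  obtain ⟨h1, h2⟩ := om_eV_inV hv (show X.ia.val < k + 1 by show k < k + 1; omega)
  exact ⟨h1, h2, by rw [om_swap, h1, neg_zero], by rw [om_swap, h2, neg_zero]⟩

theorem perp2 {v : Vec n F} (hv : InV (k + 2) v) :
    om X.b v = 0 ∧ om X.b' v = 0 ∧ om v X.b = 0 ∧ om v X.b' = 0 := by
  obtain ⟨h1, h2⟩ := om_eV_inV hv (show X.ib.val < k + 2 by show k + 1 < k + 2; omega)
  exact ⟨h1, h2, by rw [om_swap, h1, neg_zero], by rw [om_swap, h2, neg_zero]⟩

theorem inV_b : InV (k + 1) X.b := inV_eV le_rfl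
theorem inV_b' : InV (k + 1) X.b' := inV_fV le_rfl

/-- Vectors in the span of `a` and `b`. -/
def OnM (x : Vec n F) : Prop := ∃ p q : F, x = p • X.a + q • X.b

theorem onM_a : X.OnM X.a := ⟨1, 0, by simp⟩
theorem onM_b : X.OnM X.b := ⟨0, 1, by simp⟩
theorem onM_zero : X.OnM 0 := ⟨0, 0, by simp⟩
theorem onM_smul {x : Vec n F} (t : F) (h : X.OnM x) : X.OnM (t • x) := by
  obtain ⟨p, q, rfl⟩ := h; exact ⟨t * p, t * q, by module⟩

theorem qh_mem_M {w v : Vec n F} (hw : X.OnM w) (hv : X.OnM v) (c : F) : qh w v c ∈ (GM X.ia).map θ := by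
  rw [X.amal.mapM X.ia X.hk]
  obtain ⟨p, q, rfl⟩ := hw
  obtain ⟨p', q', rfl⟩ := hv
  refine qh_mem_Mi (fun l => ?_) (fun l => ?_) c <;> refine ⟨by simp, fun h1 h2 => ?_⟩ <;>
    (have e1 : l ≠ X.ia := fun e => h1 (by rw [e]); have e2 : l ≠ X.ib := fun e => h2 (by rw [e]); simp [e1, e2])

/-- The domain at the first plane. -/
abbrev Da : Subgroup K := GM X.ia ⊔ GS X.ia
/-- The domain at the second plane. -/
abbrev Db : Subgroup K := GM X.ia ⊔ GS X.ib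

theorem injDa : Inj θ X.Da := X.amal.injMS _ _ X.hk
theorem injDb : Inj θ X.Db := X.amal.injMS _ _ X.hk
theorem injM : Inj θ (GM X.ia) := X.injDa.mono le_sup_left

theorem GSb_le : GS X.ib ≤ Gam GS GM (k + 1) := GS_le_Gam le_rfl

/-- `A`. -/
noncomputable def A_ (s : F) : K := lift θ (GM X.ia) (qh X.a 0 s)
/-- `B`. -/
noncomputable def B_ (s : F) : K := lift θ (GM X.ia) (qh X.b 0 s)
/-- `C`. -/
noncomputable def C_ (t : F) : K := lift θ (GM X.ia) (qh X.a (t • X.b) 0)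
/-- `An`. -/
noncomputable def An (s : F) : K := lift θ (GS X.ia) (qh X.a' 0 s)
/-- `Bn`. -/
noncomputable def Bn (s : F) : K := lift θ (GS X.ib) (qh X.b' 0 s)
/-- Weyl elements at `a`. -/
noncomputable def wA (s : F) : K := lift θ (GS X.ia) (wl X.a X.a' s)
/-- Weyl elements at `b`. -/
noncomputable def wB (s : F) : K := lift θ (GS X.ib) (wl X.b X.b' s)
/-- Diagonal elements at `a`. -/
noncomputable def ha (s : F) : K := lift θ (GS X.ia) (hl X.a X.a' s)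
/-- `E`. -/
noncomputable def E_ (t : F) : K := lift θ X.Db (qh X.a (t • X.b') 0)
/-- `D`. -/
noncomputable def D_ (t : F) : K := lift θ X.Da (qh X.a' (t • X.b) 0)
/-- `O`. -/
noncomputable def O_ (t : F) : K := X.wA 1 * X.E_ t * (X.wA 1)⁻¹

theorem A_mem (s : F) : X.A_ s ∈ GM X.ia := lift_mem _
theorem B_mem (s : F) : X.B_ s ∈ GM X.ia := lift_mem _
theorem C_mem (t : F) : X.C_ t ∈ GM X.ia := lift_mem _
theorem θA (s : F) : θ (X.A_ s) = qh X.a 0 s := lift_spec (X.qh_mem_M X.onM_a X.onM_zero s)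
theorem θB (s : F) : θ (X.B_ s) = qh X.b 0 s := lift_spec (X.qh_mem_M X.onM_b X.onM_zero s)
theorem θC (t : F) : θ (X.C_ t) = qh X.a (t • X.b) 0 := lift_spec (X.qh_mem_M X.onM_a (X.onM_smul t X.onM_b) 0)

theorem An_mem (s : F) : X.An s ∈ GS X.ia := lift_mem _
theorem Bn_mem (s : F) : X.Bn s ∈ GS X.ib := lift_mem _
theorem wA_mem (s : F) : X.wA s ∈ GS X.ia := lift_mem _
theorem wB_mem (s : F) : X.wB s ∈ GS X.ib := lift_mem _
theorem ha_mem (s : F) : X.ha s ∈ GS X.ia := lift_mem _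

theorem θAn (s : F) : θ (X.An s) = qh X.a' 0 s :=
  lift_spec (by rw [X.amal.mapS]; exact qh_mem_Sj (onJ_fV _) (onJ_zero _) s)
theorem θBn (s : F) : θ (X.Bn s) = qh X.b' 0 s :=
  lift_spec (by rw [X.amal.mapS]; exact qh_mem_Sj (onJ_fV _) (onJ_zero _) s)
theorem θwA (s : F) : θ (X.wA s) = wl X.a X.a' s := lift_spec (by rw [X.amal.mapS]; exact wl_mem_Sj s)
theorem θwB (s : F) : θ (X.wB s) = wl X.b X.b' s := lift_spec (by rw [X.amal.mapS]; exact wl_mem_Sj s)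
theorem θha (s : F) : θ (X.ha s) = hl X.a X.a' s := lift_spec (by rw [X.amal.mapS]; exact hl_mem_Sj s)

theorem A_mem_Sa (s : F) : X.A_ s ∈ GS X.ia := by
  have e : lift θ (GS X.ia) (qh X.a 0 s) = X.A_ s := by
    have hm : qh X.a 0 s ∈ (GS X.ia).map θ := by
      rw [X.amal.mapS]; exact qh_mem_Sj (onJ_eV _) (onJ_zero _) s
    exact X.injDa.eq (Subgroup.mem_sup_right (lift_mem _)) (Subgroup.mem_sup_left (X.A_mem s))
      (by rw [lift_spec hm, X.θA])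
  rw [← e]; exact lift_mem _

theorem B_mem_Sb (s : F) : X.B_ s ∈ GS X.ib := by
  have hm : qh X.b 0 s ∈ (GS X.ib).map θ := by
    rw [X.amal.mapS]; exact qh_mem_Sj (onJ_eV _) (onJ_zero _) s
  have e : lift θ (GS X.ib) (qh X.b 0 s) = X.B_ s :=
    X.injDb.eq (Subgroup.mem_sup_right (lift_mem _)) (Subgroup.mem_sup_left (X.B_mem s)) (by rw [lift_spec hm, X.θB])
  rw [← e]; exact lift_mem _

theorem wB_b {s : F} (hs : s ≠ 0) : ap (wl X.b X.b' s) X.b = s⁻¹ • X.b' := wl_fst X.bb' hs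
theorem wB_b' {s : F} (hs : s ≠ 0) : ap (wl X.b X.b' s) X.b' = (-s) • X.b := wl_snd X.bb' hs
theorem wB_fix {x : Vec n F} (s : F) (h : om x X.b = 0) (h' : om x X.b' = 0) : ap (wl X.b X.b' s) x = x :=
  wl_fix s h h'

theorem wB1_b : ap (wl X.b X.b' 1) X.b = X.b' := by rw [X.wB_b one_ne_zero, inv_one, one_smul]
theorem wB1_b' : ap (wl X.b X.b' 1) X.b' = -X.b := by rw [X.wB_b' one_ne_zero, neg_smul, one_smul]
theorem wA1_a : ap (wl X.a X.a' 1) X.a = X.a' := by rw [wl_fst X.aa' one_ne_zero, inv_one, one_smul]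
theorem wA1_a' : ap (wl X.a X.a' 1) X.a' = -X.a := by rw [wl_snd X.aa' one_ne_zero, neg_smul, one_smul]
theorem wA_fix {x : Vec n F} (hx : InV (k + 1) x) (s : F) : ap (wl X.a X.a' s) x = x :=
  wl_fix s (X.perp hx).2.2.1 (X.perp hx).2.2.2
theorem wB_a (s : F) : ap (wl X.b X.b' s) X.a = X.a := X.wB_fix s X.ab X.ab'
theorem wB_a' (s : F) : ap (wl X.b X.b' s) X.a' = X.a' := X.wB_fix s X.a'b X.a'b'

theorem E_mem (t : F) : X.E_ t ∈ X.Db := lift_mem _
theorem D_mem (t : F) : X.D_ t ∈ X.Da := lift_mem _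

theorem θE (t : F) : θ (X.E_ t) = qh X.a (t • X.b') 0 := by
  refine lift_spec ⟨X.wB 1 * X.C_ t * (X.wB 1)⁻¹, ?_, ?_⟩
  · exact mul_mem (mul_mem (Subgroup.mem_sup_right (X.wB_mem 1)) (Subgroup.mem_sup_left (X.C_mem t)))
      (inv_mem (Subgroup.mem_sup_right (X.wB_mem 1)))
  · rw [map_mul, map_mul, map_inv, X.θwB, X.θC, qh_conj (X.a_tb t), X.wB_a, ap_smul, X.wB1_b]

theorem θD (t : F) : θ (X.D_ t) = qh X.a' (t • X.b) 0 := by
  refine lift_spec ⟨X.wA 1 * X.C_ t * (X.wA 1)⁻¹, ?_, ?_⟩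
  · exact mul_mem (mul_mem (Subgroup.mem_sup_right (X.wA_mem 1)) (Subgroup.mem_sup_left (X.C_mem t)))
      (inv_mem (Subgroup.mem_sup_right (X.wA_mem 1)))
  · rw [map_mul, map_mul, map_inv, X.θwA, X.θC, qh_conj (X.a_tb t), X.wA1_a, ap_smul, X.wA_fix X.inV_b]

theorem θO (t : F) : θ (X.O_ t) = qh X.a' (t • X.b') 0 := by
  rw [O_, map_mul, map_mul, map_inv, X.θwA, X.θE, qh_conj (X.a_tb' t), X.wA1_a, ap_smul, X.wA_fix X.inV_b']

theorem mem_Da_M {x : K} (h : x ∈ GM X.ia) : x ∈ X.Da := Subgroup.mem_sup_left h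
theorem mem_Da_S {x : K} (h : x ∈ GS X.ia) : x ∈ X.Da := Subgroup.mem_sup_right h
theorem mem_Db_M {x : K} (h : x ∈ GM X.ia) : x ∈ X.Db := Subgroup.mem_sup_left h
theorem mem_Db_S {x : K} (h : x ∈ GS X.ib) : x ∈ X.Db := Subgroup.mem_sup_right h

/-- Products in the first domain. -/
theorem Da_conj {g y z : K} (hg : g ∈ X.Da) (hy : y ∈ X.Da) (hz : z ∈ X.Da) (e : θ g * θ y * (θ g)⁻¹ = θ z) :
    g * y * g⁻¹ = z :=
  X.injDa.eq (mul_mem (mul_mem hg hy) (inv_mem hg)) hz (by rw [map_mul, map_mul, map_inv, e])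

/-- Products in the second domain. -/
theorem Db_conj {g y z : K} (hg : g ∈ X.Db) (hy : y ∈ X.Db) (hz : z ∈ X.Db) (e : θ g * θ y * (θ g)⁻¹ = θ z) :
    g * y * g⁻¹ = z :=
  X.injDb.eq (mul_mem (mul_mem hg hy) (inv_mem hg)) hz (by rw [map_mul, map_mul, map_inv, e])

/-- Products in the smaller group. -/
theorem G_conj {g y z : K} (hg : g ∈ Gam GS GM (k + 1)) (hy : y ∈ Gam GS GM (k + 1)) (hz : z ∈ Gam GS GM (k + 1))
    (e : θ g * θ y * (θ g)⁻¹ = θ z) : g * y * g⁻¹ = z :=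
  X.ih.eq (mul_mem (mul_mem hg hy) (inv_mem hg)) hz (by rw [map_mul, map_mul, map_inv, e])

theorem wB_C (t : F) : X.wB 1 * X.C_ t * (X.wB 1)⁻¹ = X.E_ t := by
  refine X.Db_conj (X.mem_Db_S (X.wB_mem 1)) (X.mem_Db_M (X.C_mem t)) (X.E_mem t) ?_
  rw [X.θwB, X.θC, X.θE, qh_conj (X.a_tb t), X.wB_a, ap_smul, X.wB1_b]

theorem wB_E (t : F) : X.wB 1 * X.E_ t * (X.wB 1)⁻¹ = X.C_ (-t) := by
  refine X.Db_conj (X.mem_Db_S (X.wB_mem 1)) (X.E_mem t) (X.mem_Db_M (X.C_mem _)) ?_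
  rw [X.θwB, X.θC, X.θE, qh_conj (X.a_tb' t), X.wB_a, ap_smul, X.wB1_b', smul_neg, neg_smul]

theorem wA_C (t : F) : X.wA 1 * X.C_ t * (X.wA 1)⁻¹ = X.D_ t := by
  refine X.Da_conj (X.mem_Da_S (X.wA_mem 1)) (X.mem_Da_M (X.C_mem t)) (X.D_mem t) ?_
  rw [X.θwA, X.θC, X.θD, qh_conj (X.a_tb t), X.wA1_a, ap_smul, X.wA_fix X.inV_b]

theorem a_comm_G {y γ : K} (hy : y ∈ GS X.ia) (hγ : γ ∈ Gam GS GM (k + 1)) : Commute γ y := by
  have hle : Gam GS GM (k + 1) ≤ Subgroup.centralizer ({y} : Set K) := by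
    rw [Subgroup.closure_le]
    rintro g (⟨j, hj, hg⟩ | ⟨i, hi, hi', hg⟩) <;> rw [SetLike.mem_coe, Subgroup.mem_centralizer_singleton_iff]
    · have hne : X.ia ≠ j := fun e => by subst e; simp at hj
      exact ((X.amal.injSS _ _ hne).commute (Subgroup.mem_sup_left hy) (Subgroup.mem_sup_right hg)
        (Sj_comm_Spk (X.amal.mem_Sj hy) (Sj_le hj (X.amal.mem_Sj hg)))).eq.symm
    · exact ((X.amal.injMS i X.ia hi').commute (Subgroup.mem_sup_right hy) (Subgroup.mem_sup_left hg)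
        (Sj_comm_Spk (X.amal.mem_Sj hy) (Mi_le hi (X.amal.mem_Mi hi' hg)))).eq.symm
  exact Subgroup.mem_centralizer_singleton_iff.1 (hle hγ)

theorem wA_wB (r s : F) : Commute (X.wB r) (X.wA s) := X.a_comm_G (X.wA_mem s) (X.GSb_le (X.wB_mem r))

theorem M_decomp {g : Sp n F} (hg : g ∈ Mi X.ia) :
    ∃ α β γ : F, g = qh X.a (β • X.b) α * qh X.b 0 γ := by
  obtain ⟨α, β, e⟩ := Mi_shape X.hk hg
  have hq : qh X.a ((-β) • X.b) (-α) ∈ Mi X.ia := by
    rw [← X.amal.mapM X.ia X.hk]; exact X.qh_mem_M X.onM_a (X.onM_smul _ X.onM_b) _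
  set q := qh X.a ((-β) • X.b) (-α)
  have hqa : ap q X.a' = ap g X.a' := by
    rw [show ap g X.a' = _ from e, ap_qh (X.a_tb _), om_smul_right, X.a'b, X.tbl.2.1]
    module
  set g₁ := q⁻¹ * g with hg₁
  have h1 : g₁ ∈ Mi X.ia := mul_mem (inv_mem hq) hg
  have h2 : g₁ ∈ Sj X.ib := by
    intro l hl
    refine ⟨h1.1 l, ?_⟩
    by_cases hla : l = X.ia
    · subst hla
      show ap g₁ X.a' = X.a'
      rw [hg₁, ap_mul, ← hqa, ap_inv]
    · exact h1.2 l (fun e => hla (Fin.ext e)) (fun e => hl (Fin.ext e))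
  have hon := plane_eq (Sj_onJ h2 (onJ_fV X.ib))
  have hcoef : ap g₁ X.b' (.inr X.ib) = 1 := by
    rw [← neg_inj, ← om_eV (ap g₁ X.b') X.ib, ← h1.1 X.ib, om_ap, om_eV]; simp
  rw [hcoef, one_smul] at hon
  set δ := ap g₁ X.b' (.inl X.ib)
  refine ⟨-α, -β, -δ, ?_⟩
  have : g₁ = qh X.b 0 (-δ) := by
    refine ext_basis (fun i => ?_) (fun i => ?_)
    · rw [h1.1, qh_fix (om_zero_right _) _ (by simp [om_eV, eV_om]) (om_zero_right _)]
    · by_cases hi : i = X.ib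
      · subst hi
        rw [hon, ap_qh (om_zero_right _), om_zero_right, X.tbl.2.2.2.1]
        module
      · rw [(h2 i hi).2, qh_fix (om_zero_right _) _ (by simp [fV_om, Ctx.b, hi]) (om_zero_right _)]
  rw [← this, hg₁, mul_inv_cancel_left]

theorem G2_comm {y γ : K} (hy : y ∈ X.Da ⊔ X.Db) (hγ : γ ∈ Gam GS GM (k + 2)) : Commute γ y := by
  have hγ1 : γ ∈ Gam GS GM (k + 1) := Gam_mono (Nat.le_succ _) hγ
  have hθγ : θ γ ∈ Spk (k + 2) := by
    rw [← X.amal.map_Gam (show k + 2 ≤ n by have := X.hk; omega)]; exact ⟨γ, hγ, rfl⟩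
  have hM : ∀ y ∈ GM X.ia, Commute γ y := by
    intro y hy
    have hθy : Commute (θ γ) (θ y) := by
      obtain ⟨α, β, δ, e⟩ := X.M_decomp (X.amal.mem_Mi X.hk hy)
      have fa : ap (θ γ) X.a = X.a := (hθγ X.ia (by show k < k + 2; omega)).1
      have fb : ap (θ γ) X.b = X.b := (hθγ X.ib (by show k + 1 < k + 2; omega)).1
      rw [e]
      exact (qh_commute (X.a_tb β) fa (by rw [ap_smul, fb]) α).mul_right
        (qh_commute (om_zero_right _) fb (ap_zero _) δ)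
    clear hγ1
    induction hγ using Subgroup.closure_induction generalizing y with
    | mem g hg =>
      rcases hg with ⟨j, hj, hg⟩ | ⟨i, hi, hi', hg⟩
      · exact (X.amal.injMS X.ia j X.hk).commute (Subgroup.mem_sup_right hg) (Subgroup.mem_sup_left hy) hθy
      · have hne : X.ia ≠ i := fun e => by subst e; simp at hi
        exact (X.amal.injMM _ _ hne X.hk hi').commute (Subgroup.mem_sup_right hg) (Subgroup.mem_sup_left hy) hθy
    | one => exact Commute.one_left y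
    | mul g₁ g₂ h₁ h₂ ih₁ ih₂ =>
      have m : ∀ g ∈ Gam GS GM (k + 2), θ g ∈ Spk (k + 2) := fun g hg => by
        rw [← X.amal.map_Gam (show k + 2 ≤ n by have := X.hk; omega)]; exact ⟨g, hg, rfl⟩
      have cm : ∀ g ∈ Gam GS GM (k + 2), Commute (θ g) (θ y) := fun g hg => by
        obtain ⟨α, β, δ, e⟩ := X.M_decomp (X.amal.mem_Mi X.hk hy)
        rw [e]
        exact (qh_commute (X.a_tb β) (m g hg X.ia (by show k < k + 2; omega)).1
          (by rw [ap_smul, (m g hg X.ib (by show k + 1 < k + 2; omega)).1]) α).mul_right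
          (qh_commute (om_zero_right _) (m g hg X.ib (by show k + 1 < k + 2; omega)).1 (ap_zero _) δ)
      exact (ih₁ (m g₁ h₁) y hy (cm g₁ h₁)).mul_left (ih₂ (m g₂ h₂) y hy (cm g₂ h₂))
    | inv g h₁ ih₁ =>
      have m : θ g ∈ Spk (k + 2) := by simpa using inv_mem hθγ
      exact (ih₁ m y hy (by have := hθy.inv_left; rwa [← map_inv, inv_inv] at this)).inv_left
  have hSb : ∀ y ∈ GS X.ib, Commute γ y := fun y hy =>
    X.ih.commute hγ1 (X.GSb_le hy) (Sj_comm_Spk (X.amal.mem_Sj hy) hθγ).symm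
  have hle : X.Da ⊔ X.Db ≤ Subgroup.centralizer ({γ} : Set K) := by
    refine sup_le (sup_le ?_ ?_) (sup_le ?_ ?_) <;> intro g hg <;> rw [Subgroup.mem_centralizer_singleton_iff]
    exacts [(hM g hg).eq.symm, (X.a_comm_G hg hγ1).eq.symm, (hM g hg).eq.symm, (hSb g hg).eq.symm]
  exact (Subgroup.mem_centralizer_singleton_iff.1 (hle hy)).symm

/-- Lift in the smaller group. -/
noncomputable def L (g : Sp n F) : K := (fun _ : Ctx θ GS GM k => lift θ (Gam GS GM (k + 1)) g) X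

theorem L_mem (g : Sp n F) : X.L g ∈ Gam GS GM (k + 1) := lift_mem _

theorem θL {g : Sp n F} (hg : g ∈ Spk (k + 1)) : θ (X.L g) = g :=
  lift_spec (by rw [X.amal.map_Gam (le_of_lt X.hk)]; exact hg)

theorem exists_G2 {g : Sp n F} (hg : g ∈ Spk (k + 2)) : ∃ γ ∈ Gam GS GM (k + 2), θ γ = g := by
  rw [← X.amal.map_Gam (show k + 2 ≤ n by have := X.hk; omega)] at hg
  exact hg

/-- `Cl`. -/
noncomputable def Cl (u : Vec n F) : K := X.L (qh X.b u 0)
/-- `Dl`. -/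
noncomputable def Dl (u : Vec n F) : K := X.L (qh X.b' u 0)
/-- `Cc`. -/
noncomputable def Cc (u : Vec n F) (s : F) : K := X.L (qh u 0 s)

set_option maxHeartbeats 1000000

variable {u : Vec n F} (hu : InV (k + 2) u)
include hu

theorem θCl : θ (X.Cl u) = qh X.b u 0 := X.θL (qh_mem_Spk X.inV_b (hu.mono (Nat.le_succ _)) 0)
theorem θDl : θ (X.Dl u) = qh X.b' u 0 := X.θL (qh_mem_Spk X.inV_b' (hu.mono (Nat.le_succ _)) 0)
theorem θCc (s : F) : θ (X.Cc u s) = qh u 0 s :=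
  X.θL (qh_mem_Spk (hu.mono (Nat.le_succ _)) (InV.zero _) s)

theorem Cc_mem (s : F) : X.Cc u s ∈ Gam GS GM (k + 2) := by
  obtain ⟨γ, hγ, e⟩ := X.exists_G2 (qh_mem_Spk hu (InV.zero _) s)
  rw [show X.Cc u s = γ from X.ih.eq (X.L_mem _) (Gam_mono (Nat.le_succ _) hγ) (by rw [X.θCc hu, e])]
  exact hγ

theorem wB_Cl : X.wB 1 * X.Cl u * (X.wB 1)⁻¹ = X.Dl u := by
  refine X.G_conj (X.GSb_le (X.wB_mem 1)) (X.L_mem _) (X.L_mem _) ?_
  rw [X.θwB, X.θCl hu, X.θDl hu, qh_conj (X.perp2 hu).1, X.wB1_b,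
    X.wB_fix 1 (X.perp2 hu).2.2.1 (X.perp2 hu).2.2.2]

theorem C_Cl (t : F) : Commute (X.C_ t) (X.Cl u) := by
  by_cases h0 : u = 0
  · have : X.Cl u = 1 := X.ih _ (X.L_mem _) (by rw [X.θCl hu, h0, qh_zero])
    rw [this]; exact Commute.one_right _
  by_cases hk2 : k + 2 < n
  · obtain ⟨g, hg, e⟩ := trans_vec hk2 hu h0
    obtain ⟨γ, hγ, eγ⟩ := X.exists_G2 hg
    set ic : Fin n := ⟨k + 2, hk2⟩
    have hm : qh X.b (eV ic) (0 : F) ∈ (GM X.ib).map θ := by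
      rw [X.amal.mapM X.ib hk2]
      refine qh_mem_Mi (fun l => ?_) (fun l => ?_) 0 <;> refine ⟨by simp [Ctx.b], fun h1 h2 => ?_⟩ <;>
        (have e1 : l ≠ X.ib := fun e => h1 (by rw [e]); have e2 : l ≠ ic := fun e => h2 (by rw [e]); simp [e1, e2, Ctx.b])
    set y := lift θ (GM X.ib) (qh X.b (eV ic) (0 : F))
    have hy : θ y = qh X.b (eV ic) 0 := lift_spec hm
    have hcl : X.Cl u = γ * y * γ⁻¹ := by
      refine (X.G_conj (Gam_mono (Nat.le_succ _) hγ) (GM_le_Gam (i := X.ib) le_rfl hk2 (lift_mem _)) (X.L_mem _) ?_).symm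
      show θ γ * θ y * (θ γ)⁻¹ = θ (X.Cl u)
      rw [eγ, hy, X.θCl hu, qh_conj (X.perp2 (inV_eV (i := ic) le_rfl)).1, (hg X.ib (by show k + 1 < k + 2; omega)).1, e]
    have hne : X.ia ≠ X.ib := X.ne_ab
    have hCy : Commute (X.C_ t) y := by
      refine (X.amal.injMM _ _ hne X.hk hk2).commute (Subgroup.mem_sup_left (X.C_mem t))
        (Subgroup.mem_sup_right (lift_mem (θ := θ) _)) ?_
      rw [X.θC, hy]
      refine (qh_commute (X.a_tb t) ?_ ?_ 0).symm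
      · exact qh_fix (X.perp2 (inV_eV (i := ic) le_rfl)).1 0 X.ab (X.perp (inV_eV (show k + 1 ≤ ic.val by show k + 1 ≤ k + 2; omega))).1
      · rw [ap_smul, qh_fix (X.perp2 (inV_eV (i := ic) le_rfl)).1 0 (om_self _) (X.perp2 (inV_eV (i := ic) le_rfl)).1]
    have hCγ : γ * X.C_ t * γ⁻¹ = X.C_ t := by
      rw [(X.G2_comm (Subgroup.mem_sup_left (X.mem_Da_M (X.C_mem t))) hγ).eq, mul_inv_cancel_right]
    rw [hcl, ← hCγ]
    exact hCy.map (MulAut.conj γ).toMonoidHom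
  · refine absurd (funext fun r => ?_) h0
    rcases r with l | l
    · exact (hu l (by omega)).1
    · exact (hu l (by omega)).2

theorem E_Dl (t : F) : Commute (X.E_ t) (X.Dl u) := by
  rw [← X.wB_C t, ← X.wB_Cl hu]
  exact (X.C_Cl hu t).map (MulAut.conj (X.wB 1)).toMonoidHom

theorem E_Cc (t s : F) : Commute (X.E_ t) (X.Cc u s) :=
  (X.G2_comm (Subgroup.mem_sup_right (X.E_mem t)) (X.Cc_mem hu s)).symm

/-- The commutator. -/
noncomputable def Z (t : F) (u : Vec n F) : K := X.E_ t * X.Cl u * (X.E_ t)⁻¹ * (X.Cl u)⁻¹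

/-- The commutator, second form. -/
noncomputable def W (t : F) (u : Vec n F) : K := X.C_ t * X.Dl u * (X.C_ t)⁻¹ * (X.Dl u)⁻¹

omit X hu in
theorem comm_mul_left (x y w : K) (h : Commute y w) :
    x * y * w * (x * y)⁻¹ * w⁻¹ = x * w * x⁻¹ * w⁻¹ := by
  calc x * y * w * (x * y)⁻¹ * w⁻¹ = x * (y * w * y⁻¹) * x⁻¹ * w⁻¹ := by group
    _ = _ := by rw [h.eq, mul_inv_cancel_right]

omit X hu in
theorem comm_mul_right (x y w : K) (h : Commute x w) :
    x * (y * w) * x⁻¹ * (y * w)⁻¹ = x * y * x⁻¹ * y⁻¹ := by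
  calc x * (y * w) * x⁻¹ * (y * w)⁻¹ = x * y * x⁻¹ * (x * w * x⁻¹) * w⁻¹ * y⁻¹ := by group
    _ = _ := by rw [h.eq, mul_inv_cancel_right]; group

theorem B_Z (s t : F) : Commute (X.B_ s) (X.Z t u) := by
  have hE : X.B_ s * X.E_ t * (X.B_ s)⁻¹ = X.E_ t * (X.C_ (-(t * s)) * X.A_ (t * t * s)) := by
    refine X.Db_conj (X.mem_Db_M (X.B_mem s)) (X.E_mem t)
      (mul_mem (X.E_mem t) (mul_mem (X.mem_Db_M (X.C_mem _)) (X.mem_Db_M (X.A_mem _)))) ?_
    rw [X.θB, map_mul, map_mul, X.θE, X.θC, X.θA, qh_conj (X.a_tb' t), qh_fix (om_zero_right _) _ X.ab (om_zero_right _),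
      ap_smul, ap_qh (om_zero_right _), qh_mul (X.a_tb _) (om_zero_right _),
      qh_mul (X.a_tb' t) (by rw [om_add_right, X.a_tb, om_zero_right, add_zero]),
      X.tbl.2.2.2.1, om_zero_right]
    simp only [om_add_left, om_smul_left, om_smul_right, om_zero_left, X.bb']
    congr 1
    · module
    · ring
  have hCl : X.B_ s * X.Cl u * (X.B_ s)⁻¹ = X.Cl u := by
    refine X.G_conj (X.GSb_le (X.B_mem_Sb s)) (X.L_mem _) (X.L_mem _) ?_
    rw [X.θB, X.θCl hu, qh_conj (X.perp2 hu).1, qh_fix (om_zero_right _) _ (om_self _) (om_zero_right _),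
      qh_fix (om_zero_right _) _ (X.perp2 hu).2.2.1 (om_zero_right _)]
  have hc : Commute (X.C_ (-(t * s)) * X.A_ (t * t * s)) (X.Cl u) :=
    (X.C_Cl hu _).mul_left ((X.a_comm_G (X.A_mem_Sa _) (X.L_mem _)).symm)
  have e : X.B_ s * X.Z t u * (X.B_ s)⁻¹ = X.Z t u := by
    calc X.B_ s * X.Z t u * (X.B_ s)⁻¹
        = (X.B_ s * X.E_ t * (X.B_ s)⁻¹) * (X.B_ s * X.Cl u * (X.B_ s)⁻¹) * (X.B_ s * X.E_ t * (X.B_ s)⁻¹)⁻¹
            * (X.B_ s * X.Cl u * (X.B_ s)⁻¹)⁻¹ := by simp only [Z]; group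
      _ = _ := by rw [hE, hCl]; exact comm_mul_left _ _ _ hc
  exact mul_inv_eq_iff_eq_mul.1 e

theorem Bn_Z (s t : F) : Commute (X.Bn s) (X.Z t u) := by
  have hE : X.Bn s * X.E_ t * (X.Bn s)⁻¹ = X.E_ t := by
    refine X.Db_conj (X.mem_Db_S (X.Bn_mem s)) (X.E_mem t) (X.E_mem t) ?_
    rw [X.θBn, X.θE, qh_conj (X.a_tb' t), qh_fix (om_zero_right _) _ X.ab' (om_zero_right _), ap_smul,
      qh_fix (om_zero_right _) _ (om_self _) (om_zero_right _)]
  have hCl : X.Bn s * X.Cl u * (X.Bn s)⁻¹ = X.Cl u * (X.Dl (s • u) * X.Cc u s) := by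
    refine X.G_conj (X.GSb_le (X.Bn_mem s)) (X.L_mem _) (mul_mem (X.L_mem _) (mul_mem (X.L_mem _) (X.L_mem _))) ?_
    rw [X.θBn, map_mul, map_mul, X.θCl hu, X.θDl (hu.smul s), X.θCc hu, qh_conj (X.perp2 hu).1,
      ← (qh_hyp X.bb' (X.perp2 hu).1 (X.perp2 hu).2.1 s).2,
      qh_fix (om_zero_right _) _ (X.perp2 hu).2.2.2 (om_zero_right _), ap_qh (om_zero_right _), X.bb', om_zero_right]
    congr 1; module
  have hc : Commute (X.E_ t) (X.Dl (s • u) * X.Cc u s) := (X.E_Dl (hu.smul s) t).mul_right (X.E_Cc hu t s)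
  have e : X.Bn s * X.Z t u * (X.Bn s)⁻¹ = X.Z t u := by
    calc X.Bn s * X.Z t u * (X.Bn s)⁻¹
        = (X.Bn s * X.E_ t * (X.Bn s)⁻¹) * (X.Bn s * X.Cl u * (X.Bn s)⁻¹) * (X.Bn s * X.E_ t * (X.Bn s)⁻¹)⁻¹
            * (X.Bn s * X.Cl u * (X.Bn s)⁻¹)⁻¹ := by simp only [Z]; group
      _ = _ := by rw [hE, hCl]; exact comm_mul_right _ _ _ hc
  exact mul_inv_eq_iff_eq_mul.1 e

omit hu in
theorem wB_eq (s : F) : X.wB s = X.B_ s * X.Bn s⁻¹ * X.B_ s :=
  (X.amal.injS _).eq (X.wB_mem s) (mul_mem (mul_mem (X.B_mem_Sb s) (X.Bn_mem _)) (X.B_mem_Sb s))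
    (by rw [map_mul, map_mul, X.θwB, X.θB, X.θBn]; rfl)

theorem wB_Z (s t : F) : Commute (X.wB s) (X.Z t u) := by
  rw [X.wB_eq]
  exact ((X.B_Z hu s t).mul_left (X.Bn_Z hu _ t)).mul_left (X.B_Z hu s t)

theorem Z_eq_W (t : F) : X.Z t u = X.W (-t) u := by
  calc X.Z t u = X.wB 1 * X.Z t u * (X.wB 1)⁻¹ := by rw [(X.wB_Z hu 1 t).eq, mul_inv_cancel_right]
    _ = (X.wB 1 * X.E_ t * (X.wB 1)⁻¹) * (X.wB 1 * X.Cl u * (X.wB 1)⁻¹) * (X.wB 1 * X.E_ t * (X.wB 1)⁻¹)⁻¹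
        * (X.wB 1 * X.Cl u * (X.wB 1)⁻¹)⁻¹ := by simp only [Z]; group
    _ = _ := by rw [X.wB_E, X.wB_Cl hu]; rfl

theorem Dl_Z (r t : F) : Commute (X.Dl (r • u)) (X.Z t u) := by
  have hE : X.Dl (r • u) * X.E_ t * (X.Dl (r • u))⁻¹ = X.E_ t := by
    rw [← (X.E_Dl (hu.smul r) t).eq, mul_inv_cancel_right]
  have hCl : X.Dl (r • u) * X.Cl u * (X.Dl (r • u))⁻¹ = X.Cl u * X.Cc u (2 * r) := by
    refine X.G_conj (X.L_mem _) (X.L_mem _) (mul_mem (X.L_mem _) (X.L_mem _)) ?_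
    have hb'ru : om X.b' (r • u) = 0 := by rw [om_smul_right, (X.perp2 hu).2.1, mul_zero]
    rw [map_mul, X.θDl (hu.smul r), X.θCl hu, X.θCc hu, qh_conj (X.perp2 hu).1]
    refine ext_ap fun x => ?_
    rw [ap_mul, ap_qh (om_zero_right u), ap_qh (X.perp2 hu).1, ap_qh (by rw [om_ap, (X.perp2 hu).1])]
    simp only [ap_qh hb'ru, om_add_left, om_add_right, om_smul_left, om_smul_right, om_zero_right, om_zero_left, om_self, X.bb',
      (X.perp2 hu).1, (X.perp2 hu).2.1, (X.perp2 hu).2.2.1, (X.perp2 hu).2.2.2]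
    module
  have e : X.Dl (r • u) * X.Z t u * (X.Dl (r • u))⁻¹ = X.Z t u := by
    calc X.Dl (r • u) * X.Z t u * (X.Dl (r • u))⁻¹
        = (X.Dl (r • u) * X.E_ t * (X.Dl (r • u))⁻¹) * (X.Dl (r • u) * X.Cl u * (X.Dl (r • u))⁻¹) *
            (X.Dl (r • u) * X.E_ t * (X.Dl (r • u))⁻¹)⁻¹ * (X.Dl (r • u) * X.Cl u * (X.Dl (r • u))⁻¹)⁻¹ := by
          simp only [Z]; group
      _ = _ := by rw [hE, hCl]; exact comm_mul_right _ _ _ (X.E_Cc hu t _)
  exact mul_inv_eq_iff_eq_mul.1 e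

theorem W_scale {t : F} (ht : t ≠ 0) : X.W t u = X.W (-1) ((-t) • u) := by
  set r := -t with hr
  have hr0 : r ≠ 0 := neg_ne_zero.2 ht
  set h := X.wB r * (X.wB 1)⁻¹
  have hθ : θ h = hl X.b X.b' r := by rw [map_mul, map_inv, X.θwB, X.θwB]; rfl
  have hC : h * X.C_ (-1) * h⁻¹ = X.C_ t := by
    refine X.Db_conj (mul_mem (X.mem_Db_S (X.wB_mem r)) (inv_mem (X.mem_Db_S (X.wB_mem 1))))
      (X.mem_Db_M (X.C_mem _)) (X.mem_Db_M (X.C_mem _)) ?_
    rw [hθ, X.θC, X.θC, qh_conj (X.a_tb _), hl_fix r X.ab X.ab', ap_smul, hl_fst X.bb' hr0, smul_smul, hr]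
    simp
  have hD : h * X.Dl (r • u) * h⁻¹ = X.Dl u := by
    refine X.G_conj (mul_mem (X.GSb_le (X.wB_mem r)) (inv_mem (X.GSb_le (X.wB_mem 1)))) (X.L_mem _) (X.L_mem _) ?_
    have hb'ru : om X.b' (r • u) = 0 := by rw [om_smul_right, (X.perp2 hu).2.1, mul_zero]
    rw [hθ, X.θDl (hu.smul r), X.θDl hu, qh_conj hb'ru, hl_snd X.bb' hr0,
      hl_fix r (X.perp2 (hu.smul r)).2.2.1 (X.perp2 (hu.smul r)).2.2.2, qh_smul_left hb'ru, smul_smul,
      inv_mul_cancel₀ hr0, one_smul, mul_zero]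
  have hZ : Commute h (X.W (-1) (r • u)) := by
    have := fun s => X.wB_Z (hu.smul r) s 1
    rw [← X.Z_eq_W (hu.smul r) 1]
    exact (this r).mul_left (this 1).inv_left
  calc X.W t u = (h * X.C_ (-1) * h⁻¹) * (h * X.Dl (r • u) * h⁻¹) * (h * X.C_ (-1) * h⁻¹)⁻¹
        * (h * X.Dl (r • u) * h⁻¹)⁻¹ := by rw [hC, hD]; rfl
    _ = h * X.W (-1) (r • u) * h⁻¹ := by simp only [W]; group
    _ = _ := by rw [hZ.eq, mul_inv_cancel_right]

theorem Z_scale {t : F} (ht : t ≠ 0) : X.Z t u = X.W (-1) (t • u) := by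
  rw [X.Z_eq_W hu, X.W_scale hu (neg_ne_zero.2 ht), neg_neg]

end Ctx

end Cfsg.Agent.SlimSp
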