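import Mathlib
import Cfsg.Agent.Lib.Recog.SlimSp.Step

/-! The inductive step: the unipotent radical. -/

set_option autoImplicit false
set_option linter.unusedSectionVars false
set_option maxHeartbeats 1000000

namespace Cfsg.Agent.SlimSp

open Matrix

variable {F : Type*} [Field F] {n : ℕ} {K : Type*} [Group K] {θ : K →* Sp n F} {GS GM : Fin n → Subgroup K}

theorem InV.exists_om {k : ℕ} {u : Vec n F} (hu : InV k u) (h0 : u ≠ 0) :
    ∃ w, InV k w ∧ om u w = 1 := by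
  obtain ⟨r, hr⟩ : ∃ r, u r ≠ 0 := by
    by_contra hc
    push Not at hc
    exact h0 (funext hc)
  rcases r with l | l
  · have hl : k ≤ l.val := by
      by_contra hc
      exact hr (hu l (by omega)).1
    exact ⟨(u (.inl l))⁻¹ • fV l, (inV_fV hl).smul _, by rw [om_smul_right, om_fV, inv_mul_cancel₀ hr]⟩
  · have hl : k ≤ l.val := by
      by_contra hc
      exact hr (hu l (by omega)).2
    exact ⟨(-(u (.inr l))⁻¹) • eV l, (inV_eV hl).smul _, by
      rw [om_smul_right, om_eV, neg_mul_neg, inv_mul_cancel₀ hr]⟩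

namespace Ctx

variable {k : ℕ} (X : Ctx θ GS GM k)
include X

theorem mem_G_Spk {γ : K} (hγ : γ ∈ Gam GS GM (k + 1)) : θ γ ∈ Spk (k + 1) := by
  rw [← X.amal.map_Gam (le_of_lt X.hk)]; exact ⟨γ, hγ, rfl⟩

theorem G_fix_a {γ : K} (hγ : γ ∈ Gam GS GM (k + 1)) : ap (θ γ) X.a = X.a ∧ ap (θ γ) X.a' = X.a' :=
  X.mem_G_Spk hγ X.ia (by show k < k + 1; omega)

theorem exists_G {g : Sp n F} (hg : g ∈ Spk (k + 1)) : ∃ γ ∈ Gam GS GM (k + 1), θ γ = g := by
  rw [← X.amal.map_Gam (le_of_lt X.hk)] at hg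
  exact hg

theorem exists_to {v : Vec n F} (hv : InV (k + 1) v) (h0 : v ≠ 0) :
    ∃ γ ∈ Gam GS GM (k + 1), ap (θ γ) X.b = v := by
  obtain ⟨g, hg, e⟩ := trans_vec X.hk hv h0
  obtain ⟨γ, hγ, eγ⟩ := X.exists_G hg
  exact ⟨γ, hγ, by rw [eγ]; exact e⟩

theorem cent {γ : K} (hγ : γ ∈ Gam GS GM (k + 1)) (hb : ap (θ γ) X.b = X.b) (t : F) : Commute γ (X.C_ t) := by
  obtain ⟨v, c, hv, g', hg', e⟩ := stab_decomp X.hk (X.mem_G_Spk hγ) hb
  obtain ⟨γ', hγ', e'⟩ := X.exists_G2 hg'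
  have hbv : om X.b v = 0 := (X.perp2 hv).1
  set β := lift θ (GS X.ib) (qh X.b 0 c)
  have hβ : θ β = qh X.b 0 c := lift_spec (by rw [X.amal.mapS]; exact qh_mem_Sj (onJ_eV _) (onJ_zero _) c)
  have hγeq : γ = X.Cl v * β * γ' := by
    refine X.ih.eq hγ (mul_mem (mul_mem (X.L_mem _) (X.GSb_le (lift_mem _))) (Gam_mono (Nat.le_succ _) hγ')) ?_
    rw [e, map_mul, map_mul, X.θCl hv, hβ, e', qh_mul hbv (om_zero_right _)]
    simp [om_zero_left]
  have hβc : Commute β (X.C_ t) := by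
    refine X.injDb.commute (X.mem_Db_S (lift_mem _)) (X.mem_Db_M (X.C_mem t)) ?_
    rw [hβ, X.θC]
    exact qh_commute (X.a_tb t) (qh_fix (om_zero_right _) _ X.ab (om_zero_right _))
      (by rw [ap_smul, qh_fix (om_zero_right _) _ (om_self _) (om_zero_right _)]) 0
  rw [hγeq]
  exact ((X.C_Cl hv t).symm.mul_left hβc).mul_left
    (X.G2_comm (Subgroup.mem_sup_right (X.mem_Db_M (X.C_mem t))) hγ')

open scoped Classical in
/-- The element at a vector. -/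
noncomputable def x (v : Vec n F) : K :=
  if h : InV (k + 1) v ∧ v ≠ 0 then
    (X.exists_to h.1 h.2).choose * X.C_ 1 * ((X.exists_to h.1 h.2).choose)⁻¹ else 1

theorem x_zero : X.x 0 = 1 := by rw [x, dif_neg (fun h => h.2 rfl)]

theorem x_spec {γ : K} (hγ : γ ∈ Gam GS GM (k + 1)) {v : Vec n F} (e : ap (θ γ) X.b = v) :
    X.x v = γ * X.C_ 1 * γ⁻¹ := by
  have hv : InV (k + 1) v ∧ v ≠ 0 := ⟨e ▸ ap_inV (X.mem_G_Spk hγ) X.inV_b, fun h0 =>
    eV_ne (F := F) X.ib (ap_inj (g := θ γ) (by rw [e, h0, ap_zero]))⟩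
  rw [x, dif_pos hv]
  obtain ⟨h1, h2⟩ := (X.exists_to hv.1 hv.2).choose_spec
  set δ := (X.exists_to hv.1 hv.2).choose
  have hc := X.cent (mul_mem (inv_mem hγ) h1) (by rw [map_mul, map_inv, ap_mul, h2, ← e, ap_inv]) 1
  calc δ * X.C_ 1 * δ⁻¹ = γ * ((γ⁻¹ * δ) * X.C_ 1 * (γ⁻¹ * δ)⁻¹) * γ⁻¹ := by group
    _ = _ := by rw [hc.eq, mul_inv_cancel_right]

theorem x_conj {γ : K} (hγ : γ ∈ Gam GS GM (k + 1)) {v : Vec n F} (hv : InV (k + 1) v) :
    γ * X.x v * γ⁻¹ = X.x (ap (θ γ) v) := by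
  by_cases h0 : v = 0
  · subst h0; rw [ap_zero, X.x_zero, mul_one, mul_inv_cancel]
  obtain ⟨δ, hδ, e⟩ := X.exists_to hv h0
  rw [X.x_spec hδ e, X.x_spec (mul_mem hγ hδ) (by rw [map_mul, ap_mul, e])]
  group

theorem θx {v : Vec n F} (hv : InV (k + 1) v) : θ (X.x v) = qh X.a v 0 := by
  by_cases h0 : v = 0
  · subst h0; rw [X.x_zero, map_one, qh_zero]
  obtain ⟨δ, hδ, e⟩ := X.exists_to hv h0
  rw [X.x_spec hδ e, map_mul, map_mul, map_inv, X.θC, qh_conj (X.a_tb 1), (X.G_fix_a hδ).1, one_smul, e]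

theorem x_plane {u : Vec n F} (hu : OnJ X.ib u) : X.x u ∈ X.Db := by
  by_cases h0 : u = 0
  · subst h0; rw [X.x_zero]; exact one_mem _
  obtain ⟨g, hg, e⟩ := exists_plane hu h0
  rw [← X.amal.mapS X.ib] at hg
  obtain ⟨γ, hγ, rfl⟩ := hg
  rw [X.x_spec (X.GSb_le hγ) e]
  exact mul_mem (mul_mem (X.mem_Db_S hγ) (X.mem_Db_M (X.C_mem 1))) (inv_mem (X.mem_Db_S hγ))

theorem onJ_inV {u : Vec n F} (hu : OnJ X.ib u) : InV (k + 1) u := fun l hl =>
  hu l (fun e => by subst e; exact absurd hl (by show ¬ k + 1 < k + 1; omega))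

theorem x_tb (t : F) : X.x (t • X.b) = X.C_ t := by
  have h : OnJ X.ib (t • X.b) := fun l hl => by simp [Ctx.b, hl]
  exact X.injDb.eq (X.x_plane h) (X.mem_Db_M (X.C_mem t)) (by rw [X.θx (X.onJ_inV h), X.θC])

theorem x_tb' (t : F) : X.x (t • X.b') = X.E_ t := by
  have h : OnJ X.ib (t • X.b') := fun l hl => by simp [Ctx.b', hl]
  exact X.injDb.eq (X.x_plane h) (X.E_mem t) (by rw [X.θx (X.onJ_inV h), X.θE])

theorem A_zero : X.A_ 0 = 1 := X.injM _ (X.A_mem 0) (by rw [X.θA, qh_zero])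

theorem A_add (s t : F) : X.A_ s * X.A_ t = X.A_ (s + t) :=
  X.injM.eq (mul_mem (X.A_mem s) (X.A_mem t)) (X.A_mem _)
    (by rw [map_mul, X.θA, X.θA, X.θA, qh_mul (om_zero_right _) (om_zero_right _)]; simp [om_zero_left])

theorem A_G {γ : K} (hγ : γ ∈ Gam GS GM (k + 1)) (s : F) : Commute γ (X.A_ s) := X.a_comm_G (X.A_mem_Sa s) hγ

theorem A_C (s t : F) : Commute (X.A_ s) (X.C_ t) :=
  X.injM.commute (X.A_mem s) (X.C_mem t) (by
    rw [X.θA, X.θC]
    exact (qh_commute (om_zero_right _) (qh_fix (X.a_tb t) 0 (om_self _) (X.a_tb t)) (ap_zero _) s).symm)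

theorem A_x (s : F) (v : Vec n F) : Commute (X.A_ s) (X.x v) := by
  rw [x]
  split_ifs with h
  · obtain ⟨h1, -⟩ := (X.exists_to h.1 h.2).choose_spec
    exact ((X.A_G h1 s).symm.mul_right (X.A_C s 1)).mul_right (X.A_G h1 s).symm.inv_right
  · exact Commute.one_right _

/-- The multiplication rule at a pair. -/
def Mul (v w : Vec n F) : Prop := X.x v * X.x w = X.x (v + w) * X.A_ (om w v)

theorem mul_transport {γ : K} (hγ : γ ∈ Gam GS GM (k + 1)) {v w : Vec n F} (hv : InV (k + 1) v)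
    (hw : InV (k + 1) w) (h : X.Mul v w) : X.Mul (ap (θ γ) v) (ap (θ γ) w) := by
  rw [Mul, ← X.x_conj hγ hv, ← X.x_conj hγ hw, ← ap_add, ← X.x_conj hγ (hv.add hw), om_ap]
  calc γ * X.x v * γ⁻¹ * (γ * X.x w * γ⁻¹) = γ * (X.x v * X.x w) * γ⁻¹ := by group
    _ = γ * X.x (v + w) * (γ⁻¹ * (γ * X.A_ (om w v) * γ⁻¹)) := by rw [h]; group
    _ = _ := by rw [(X.A_G hγ _).eq, mul_inv_cancel_right]; group

theorem mul_transport' {γ : K} (hγ : γ ∈ Gam GS GM (k + 1)) {v w : Vec n F} (hv : InV (k + 1) v)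
    (hw : InV (k + 1) w) (h : X.Mul (ap (θ γ) v) (ap (θ γ) w)) : X.Mul v w := by
  have := X.mul_transport (inv_mem hγ) (ap_inV (X.mem_G_Spk hγ) hv) (ap_inV (X.mem_G_Spk hγ) hw) h
  rwa [map_inv, ap_inv, ap_inv] at this

theorem x_move {u : Vec n F} (hu : InV (k + 2) u) {t : F} (ht : t ≠ 0) :
    X.x (t • X.b + u) = X.C_ t * X.W (-1) u := by
  have hu' : InV (k + 2) (t⁻¹ • u) := hu.smul _
  set δ := X.Dl (t⁻¹ • u)
  have e : ap (θ δ) (t • X.b) = t • X.b + u := by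
    rw [X.θDl hu', ap_qh (X.perp2 hu').2.1, om_smul_left, X.bb', om_smul_left, (X.perp2 hu').1]
    simp [smul_smul, mul_inv_cancel₀ ht]
  have h1 := X.x_conj (γ := δ) (X.L_mem _) (X.inV_b.smul t)
  rw [e, X.x_tb] at h1
  rw [← h1]
  have hW : X.W (-t) (t⁻¹ • u) = X.W (-1) u := by
    rw [X.W_scale hu' (neg_ne_zero.2 ht), neg_neg, smul_smul, mul_inv_cancel₀ ht, one_smul]
  have hCi : (X.C_ t)⁻¹ = X.C_ (-t) :=
    X.injM.eq (inv_mem (X.C_mem t)) (X.C_mem _) (by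
      rw [map_inv, X.θC, X.θC, qh_inv (X.a_tb t), neg_zero, neg_smul])
  rw [← hW, W, ← hCi]
  simp only [δ]
  group

theorem mul_base {u : Vec n F} (hu : InV (k + 2) u) {l : F} (h0 : l ≠ 0) (h1 : 1 + l ≠ 0) :
    X.Mul X.b (l • X.b + u) := by
  have hom : om (l • X.b + u) X.b = 0 := by rw [om_add_left, om_smul_left, om_self, (X.perp2 hu).2.2.1]; ring
  rw [Mul, hom, X.A_zero, mul_one, show X.b + (l • X.b + u) = (1 + l) • X.b + u by module, X.x_move hu h0,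
    X.x_move hu h1, show X.x X.b = X.C_ 1 by rw [← X.x_tb 1, one_smul], ← mul_assoc]
  congr 1
  exact X.injM.eq (mul_mem (X.C_mem 1) (X.C_mem l)) (X.C_mem _) (by
    rw [map_mul, X.θC, X.θC, X.θC, qh_mul (X.a_tb 1) (X.a_tb l), ← add_smul]
    simp [om_smul_left, om_smul_right, om_self])

theorem mul_b {w : Vec n F} (hw : InV (k + 1) w) : X.Mul X.b w := by
  obtain ⟨p, u, hp, hu, rfl⟩ := split_vec X.hk hw
  change OnJ X.ib p at hp
  have hpl : ∀ q : Vec n F, OnJ X.ib q → X.Mul X.b q := by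
    intro q hq
    have hb : OnJ X.ib X.b := onJ_eV _
    have hbq : OnJ X.ib (X.b + q) := fun l hl => by simp [hq l hl, hb l hl]
    refine X.injDb.eq (mul_mem (X.x_plane hb) (X.x_plane hq))
      (mul_mem (X.x_plane hbq) (X.mem_Db_M (X.A_mem _))) ?_
    rw [map_mul, map_mul, X.θx X.inV_b, X.θx (X.onJ_inV hq), X.θx (X.onJ_inV hbq), X.θA,
      qh_mul (X.perp X.inV_b).1 (X.perp (X.onJ_inV hq)).1,
      qh_mul (X.perp (X.onJ_inV hbq)).1 (om_zero_right _)]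
    simp [om_zero_left]
  by_cases hu0 : u = 0
  · subst hu0; rw [add_zero]; exact hpl p hp
  obtain ⟨lam, mu, rfl⟩ : ∃ lam mu, p = lam • X.b + mu • X.b' := ⟨_, _, plane_eq hp⟩
  have hbu := X.perp2 hu
  by_cases hmu : mu = 0
  · obtain ⟨w', hw', e1⟩ := hu.exists_om hu0
    obtain ⟨c, hc0, hc1⟩ := X.big
    set s := -c - lam
    have hsw : InV (k + 2) (s • w') := hw'.smul _
    refine X.mul_transport' (γ := X.Cl (s • w')) (X.L_mem _) X.inV_b hw ?_
    have hb1 : ap (θ (X.Cl (s • w'))) X.b = X.b := by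
      rw [X.θCl hsw]; exact qh_fix (X.perp2 hsw).1 _ (om_self _) (X.perp2 hsw).1
    have hw1 : ap (θ (X.Cl (s • w'))) (lam • X.b + mu • X.b' + u) = (-c) • X.b + u := by
      rw [hmu, zero_smul, add_zero, ap_add, ap_smul, hb1, X.θCl hsw, ap_qh (X.perp2 hsw).1, hbu.2.2.1,
        om_smul_right, e1]
      simp only [zero_smul, mul_zero, mul_one, add_zero, s]
      module
    rw [hb1, hw1]
    exact X.mul_base hu (neg_ne_zero.2 hc0) (fun h => hc1 (by linear_combination -h))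
  · have hu' : InV (k + 2) (mu⁻¹ • u) := hu.smul _
    refine X.mul_transport' (γ := X.Cl (mu⁻¹ • u)) (X.L_mem _) X.inV_b hw ?_
    have hb1 : ap (θ (X.Cl (mu⁻¹ • u))) X.b = X.b := by
      rw [X.θCl hu']; exact qh_fix (X.perp2 hu').1 _ (om_self _) (X.perp2 hu').1
    have hw1 : ap (θ (X.Cl (mu⁻¹ • u))) (lam • X.b + mu • X.b' + u) = lam • X.b + mu • X.b' := by
      rw [ap_add, ap_add, ap_smul, ap_smul, hb1, X.θCl hu', ap_qh (X.perp2 hu').1, ap_qh (X.perp2 hu').1,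
        X.tbl.2.2.2.1, (X.perp2 hu').2.1, hbu.2.2.1, om_smul_right, om_self]
      match_scalars <;> field_simp <;> ring
    rw [hb1, hw1]
    exact hpl _ hp

theorem x_mul {v w : Vec n F} (hv : InV (k + 1) v) (hw : InV (k + 1) w) :
    X.x v * X.x w = X.x (v + w) * X.A_ (om w v) := by
  by_cases h0 : v = 0
  · subst h0; rw [X.x_zero, one_mul, zero_add, om_zero_right, X.A_zero, mul_one]
  obtain ⟨γ, hγ, e⟩ := X.exists_to hv h0
  have hi := inv_mem hγ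
  have h := X.mul_transport hγ X.inV_b (ap_inV (X.mem_G_Spk hi) hw) (X.mul_b (ap_inV (X.mem_G_Spk hi) hw))
  rw [e, map_inv, ap_inv'] at h
  exact h

theorem x_W {u : Vec n F} (hu : InV (k + 2) u) : X.x u = X.W (-1) u := by
  have h := X.x_mul X.inV_b (hu.mono (Nat.le_succ _))
  rw [(X.perp2 hu).2.2.1, X.A_zero, mul_one] at h
  have h2 := X.x_move hu (one_ne_zero (α := F))
  rw [one_smul, ← h, show X.x X.b = X.C_ 1 by rw [← X.x_tb 1, one_smul]] at h2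
  exact mul_left_cancel h2

theorem x_Z {u : Vec n F} (hu : InV (k + 2) u) {t : F} (ht : t ≠ 0) : X.x (t • u) = X.Z t u := by
  rw [X.Z_scale hu ht, X.x_W (hu.smul t)]

theorem Bn_x {u : Vec n F} (hu : InV (k + 2) u) (s : F) : Commute (X.Bn s) (X.x u) := by
  rw [← one_smul F u, X.x_Z hu one_ne_zero]; exact X.Bn_Z hu s 1

theorem Dl_x {u : Vec n F} (hu : InV (k + 2) u) (r : F) : Commute (X.Dl (r • u)) (X.x u) := by
  conv => arg 2; rw [← one_smul F u, X.x_Z hu one_ne_zero]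
  exact X.Dl_Z hu r 1

end Ctx

end Cfsg.Agent.SlimSp
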