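import Mathlib
import Cfsg.Agent.Lib.Recog.SlimSp.XFam

/-! The inductive step: the short rank-one pair. -/

set_option autoImplicit false
set_option linter.unusedSectionVars false
set_option maxHeartbeats 1000000

namespace Cfsg.Agent.SlimSp

open Matrix

variable {F : Type*} [Field F] {n : ℕ} {K : Type*} [Group K] {θ : K →* Sp n F} {GS GM : Fin n → Subgroup K}

namespace Ctx

variable {k : ℕ} (X : Ctx θ GS GM k)
include X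

theorem E_add (s t : F) : X.E_ s * X.E_ t = X.E_ (s + t) :=
  X.injDb.eq (mul_mem (X.E_mem s) (X.E_mem t)) (X.E_mem _) (by
    rw [map_mul, X.θE, X.θE, X.θE, qh_mul (X.a_tb' s) (X.a_tb' t), ← add_smul]
    simp [om_smul_left, om_smul_right, om_self])

theorem C_add (s t : F) : X.C_ s * X.C_ t = X.C_ (s + t) :=
  X.injM.eq (mul_mem (X.C_mem s) (X.C_mem t)) (X.C_mem _) (by
    rw [map_mul, X.θC, X.θC, X.θC, qh_mul (X.a_tb s) (X.a_tb t), ← add_smul]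
    simp [om_smul_left, om_smul_right, om_self])

theorem O_add (s t : F) : X.O_ s * X.O_ t = X.O_ (s + t) := by
  rw [O_, O_, O_, ← X.E_add]; group

theorem C_zero : X.C_ 0 = 1 := X.injM _ (X.C_mem 0) (by rw [X.θC, zero_smul, qh_zero])
theorem E_zero : X.E_ 0 = 1 := X.injDb _ (X.E_mem 0) (by rw [X.θE, zero_smul, qh_zero])
theorem O_zero : X.O_ 0 = 1 := by rw [O_, X.E_zero, mul_one, mul_inv_cancel]

theorem C_inv (t : F) : (X.C_ t)⁻¹ = X.C_ (-t) :=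
  inv_eq_of_mul_eq_one_right (by rw [X.C_add, add_neg_cancel, X.C_zero])
theorem E_inv (t : F) : (X.E_ t)⁻¹ = X.E_ (-t) :=
  inv_eq_of_mul_eq_one_right (by rw [X.E_add, add_neg_cancel, X.E_zero])
theorem O_inv (t : F) : (X.O_ t)⁻¹ = X.O_ (-t) :=
  inv_eq_of_mul_eq_one_right (by rw [X.O_add, add_neg_cancel, X.O_zero])

theorem wA_G {γ : K} (hγ : γ ∈ Gam GS GM (k + 1)) (s : F) : Commute γ (X.wA s) := X.a_comm_G (X.wA_mem s) hγ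

theorem O_G2 {γ : K} (hγ : γ ∈ Gam GS GM (k + 2)) (t : F) : Commute γ (X.O_ t) :=
  have h1 := X.wA_G (Gam_mono (Nat.le_succ _) hγ) 1
  (h1.mul_right (X.G2_comm (Subgroup.mem_sup_right (X.E_mem t)) hγ)).mul_right h1.inv_right

theorem O_eq_D (t : F) : X.O_ t = X.wB 1 * X.D_ t * (X.wB 1)⁻¹ := by
  rw [← X.wA_C t, O_, ← X.wB_C t]
  calc X.wA 1 * (X.wB 1 * X.C_ t * (X.wB 1)⁻¹) * (X.wA 1)⁻¹
      = (X.wA 1 * X.wB 1) * X.C_ t * (X.wA 1 * X.wB 1)⁻¹ := by group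
    _ = (X.wB 1 * X.wA 1) * X.C_ t * (X.wB 1 * X.wA 1)⁻¹ := by rw [(X.wA_wB 1 1).eq]
    _ = _ := by group

theorem An_G {γ : K} (hγ : γ ∈ Gam GS GM (k + 1)) (s : F) : Commute γ (X.An s) := X.a_comm_G (X.An_mem s) hγ

theorem An_C (s t : F) : X.An s * X.C_ t * (X.An s)⁻¹ = X.D_ (s * t) * X.B_ (-(s * t * t)) * X.C_ t := by
  refine X.Da_conj (X.mem_Da_S (X.An_mem s)) (X.mem_Da_M (X.C_mem t))
    (mul_mem (mul_mem (X.D_mem _) (X.mem_Da_M (X.B_mem _))) (X.mem_Da_M (X.C_mem t))) ?_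
  have e1 : ap (qh X.a' 0 s) X.a = X.a + s • X.a' := by
    rw [ap_qh (om_zero_right _), X.tbl.1, om_zero_right]; simp
  rw [X.θAn, map_mul, map_mul, X.θD, X.θB, X.θC, qh_conj (X.a_tb t), e1, ap_smul,
    qh_fix (om_zero_right _) _ X.tbl.2.2.2.2.2.2.2.2.2.1 (om_zero_right _),
    (qh_hyp X.aa' (X.a_tb t) (X.a'_tb t) s).1, qh_smul_left (om_zero_right X.b), smul_zero, smul_smul]
  congr 2
  ring_nf

theorem An_E (s t : F) : X.An s * X.E_ t * (X.An s)⁻¹ = X.O_ (s * t) * X.Bn (-(s * t * t)) * X.E_ t := by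
  have hB : X.wB 1 * X.B_ (-(s * t * t)) * (X.wB 1)⁻¹ = X.Bn (-(s * t * t)) := by
    refine (X.amal.injS X.ib).eq (mul_mem (mul_mem (X.wB_mem 1) (X.B_mem_Sb _)) (inv_mem (X.wB_mem 1))) (X.Bn_mem _) ?_
    rw [map_mul, map_mul, map_inv, X.θwB, X.θB, X.θBn, qh_conj (om_zero_right _), X.wB1_b, ap_zero]
  have hc := (X.An_G (X.GSb_le (X.wB_mem 1)) s).eq
  rw [X.O_eq_D, ← hB, ← X.wB_C]
  calc X.An s * (X.wB 1 * X.C_ t * (X.wB 1)⁻¹) * (X.An s)⁻¹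
      = (X.An s * X.wB 1) * X.C_ t * (X.An s * X.wB 1)⁻¹ := by group
    _ = X.wB 1 * (X.An s * X.C_ t * (X.An s)⁻¹) * (X.wB 1)⁻¹ := by rw [← hc]; group
    _ = _ := by rw [X.An_C]; group

theorem O_Dl {u : Vec n F} (hu : InV (k + 2) u) (t : F) : Commute (X.O_ t) (X.Dl u) := by
  have h1 := (X.wA_G (γ := X.Dl u) (X.L_mem _) 1).symm
  exact (h1.mul_left (X.E_Dl hu t)).mul_left h1.inv_left

theorem comm_split {G : Type*} [Group G] (o y e w : G) :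
    o * y * e * w * (o * y * e)⁻¹ * w⁻¹ =
      o * (y * (e * w * e⁻¹ * w⁻¹) * y⁻¹ * (y * w * y⁻¹ * w⁻¹)) * o⁻¹ * (o * w * o⁻¹ * w⁻¹) := by group

theorem magic {u : Vec n F} (hu : InV (k + 2) u) (σ : F) :
    X.O_ σ * X.x u * (X.O_ σ)⁻¹ = X.Dl (σ • u) * X.x u := by
  by_cases hσ : σ = 0
  · subst hσ
    rw [X.O_zero, zero_smul, show X.Dl 0 = 1 from X.ih _ (X.L_mem _) (by rw [X.θDl (InV.zero _), qh_zero])]
    group
  have hC : ∀ t : F, t ≠ 0 → X.An 1 * X.x u * (X.An 1)⁻¹ =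
      (X.O_ t * X.x u * (X.O_ t)⁻¹) * X.Dl ((-t) • u) *
        (X.Cc u 1 * (X.wA 1 * X.x u * (X.wA 1)⁻¹)) := by
    intro t ht
    have hu' : InV (k + 2) (t⁻¹ • u) := hu.smul _
    set w := X.Cl (t⁻¹ • u)
    have hx : X.x u = X.E_ t * w * (X.E_ t)⁻¹ * w⁻¹ := by
      have := X.x_Z hu' ht
      rwa [smul_smul, mul_inv_cancel₀ ht, one_smul] at this
    have hAw : X.An 1 * w * (X.An 1)⁻¹ = w := by
      rw [← (X.An_G (γ := w) (X.L_mem _) 1).eq, mul_inv_cancel_right]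
    have hν : X.Bn (-(1 * t * t)) * w * (X.Bn (-(1 * t * t)))⁻¹ * w⁻¹ = X.Dl ((-t) • u) * X.Cc u 1 := by
      rw [mul_inv_eq_iff_eq_mul]
      refine X.G_conj (X.GSb_le (X.Bn_mem _)) (X.L_mem _) (mul_mem (mul_mem (X.L_mem _) (X.L_mem _)) (X.L_mem _)) ?_
      show _ * θ (X.Cl _) * _ = θ (X.Dl ((-t) • u) * X.Cc u 1 * X.Cl _)
      rw [X.θBn, map_mul, map_mul, X.θDl (hu.smul _), X.θCc hu, X.θCl hu', qh_conj (X.perp2 hu').1]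
      have e2 : qh (X.b + (-(1 * t * t)) • X.b') (t⁻¹ • u) 0 =
          qh X.b' ((-t) • u) 0 * qh u 0 1 * qh X.b (t⁻¹ • u) 0 := by
        rw [(qh_hyp X.bb' (X.perp2 hu').1 (X.perp2 hu').2.1 _).1, smul_smul, qh_smul_left (om_zero_right u), smul_zero]
        congr 2 <;> [congr 1; skip] <;> field_simp
      rw [← e2, ap_qh (om_zero_right _), ap_qh (om_zero_right _), X.bb', om_zero_right, (X.perp2 hu').2.2.2,
        om_zero_right]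
      congr 1 <;> module
    have hY : X.O_ t * w * (X.O_ t)⁻¹ * w⁻¹ = X.wA 1 * X.x u * (X.wA 1)⁻¹ := by
      have hc := (X.wA_G (γ := w) (X.L_mem _) 1).eq
      calc X.O_ t * w * (X.O_ t)⁻¹ * w⁻¹
          = X.wA 1 * X.E_ t * ((X.wA 1)⁻¹ * w * X.wA 1) * (X.E_ t)⁻¹ * ((X.wA 1)⁻¹ * w⁻¹) := by rw [O_]; group
        _ = X.wA 1 * X.E_ t * w * (X.E_ t)⁻¹ * ((X.wA 1)⁻¹ * w⁻¹) := by rw [mul_assoc (X.wA 1)⁻¹, hc]; group
        _ = X.wA 1 * X.E_ t * w * (X.E_ t)⁻¹ * (w⁻¹ * (X.wA 1)⁻¹) := by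
            rw [← _root_.mul_inv_rev, ← _root_.mul_inv_rev, hc]
        _ = _ := by rw [hx]; group
    have hOν : Commute (X.O_ t) (X.Dl ((-t) • u) * X.Cc u 1) :=
      (X.O_Dl (hu.smul _) t).mul_right (X.O_G2 (X.Cc_mem hu 1) t).symm
    calc X.An 1 * X.x u * (X.An 1)⁻¹
        = (X.An 1 * X.E_ t * (X.An 1)⁻¹) * (X.An 1 * w * (X.An 1)⁻¹) * (X.An 1 * X.E_ t * (X.An 1)⁻¹)⁻¹
            * (X.An 1 * w * (X.An 1)⁻¹)⁻¹ := by rw [hx]; group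
      _ = X.O_ (1 * t) * X.Bn (-(1 * t * t)) * X.E_ t * w *
            (X.O_ (1 * t) * X.Bn (-(1 * t * t)) * X.E_ t)⁻¹ * w⁻¹ := by rw [X.An_E, hAw]
      _ = X.O_ t * (X.Bn (-(1 * t * t)) * X.x u * (X.Bn (-(1 * t * t)))⁻¹ *
            (X.Dl ((-t) • u) * X.Cc u 1)) * (X.O_ t)⁻¹ * (X.wA 1 * X.x u * (X.wA 1)⁻¹) := by
          rw [X.comm_split, ← hx, hν]
          rw [one_mul, hY]
      _ = X.O_ t * X.x u * ((X.Dl ((-t) • u) * X.Cc u 1) * (X.O_ t)⁻¹) * (X.wA 1 * X.x u * (X.wA 1)⁻¹) := by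
          rw [(X.Bn_x hu _).eq, mul_inv_cancel_right]; group
      _ = _ := by rw [← hOν.inv_left.eq]; group
  set Y : F → K := fun t => X.O_ t * X.x u * (X.O_ t)⁻¹ * X.Dl ((-t) • u) with hYdef
  have hconst : ∀ s t : F, s ≠ 0 → t ≠ 0 → Y s = Y t := fun s t hs ht =>
    mul_right_cancel ((hC s hs).symm.trans (hC t ht))
  have hDl : ∀ s t : F, X.Dl (s • u) * X.Dl (t • u) = X.Dl ((s + t) • u) := fun s t => by
    refine X.ih.eq (mul_mem (X.L_mem _) (X.L_mem _)) (X.L_mem _) ?_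
    show θ (X.Dl _ * X.Dl _) = θ (X.Dl _)
    rw [map_mul, X.θDl (hu.smul s), X.θDl (hu.smul t), X.θDl (hu.smul _),
      qh_mul (by rw [om_smul_right, (X.perp2 hu).2.1, mul_zero]) (by rw [om_smul_right, (X.perp2 hu).2.1, mul_zero]),
      ← add_smul]
    simp [om_smul_left, om_smul_right, om_self]
  have hDl0 : X.Dl ((0 : F) • u) = 1 := X.ih _ (X.L_mem _) (by rw [zero_smul, X.θDl (InV.zero _), qh_zero])
  obtain ⟨c, hc0, hc1⟩ := X.big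
  set s₁ : F := 1
  set s₂ : F := -c
  have h1 : s₁ ≠ 0 := one_ne_zero
  have h2 : s₂ ≠ 0 := neg_ne_zero.2 hc0
  have h12 : s₁ + s₂ ≠ 0 := fun h => hc1 (by simp only [s₁, s₂] at h; linear_combination -h)
  have hconj : ∀ s t, X.O_ s * Y t * (X.O_ s)⁻¹ = X.O_ (s + t) * X.x u * (X.O_ (s + t))⁻¹ * X.Dl ((-t) • u) := by
    intro s t
    rw [← X.O_add]
    calc X.O_ s * Y t * (X.O_ s)⁻¹
        = X.O_ s * X.O_ t * X.x u * (X.O_ t)⁻¹ * (X.Dl ((-t) • u) * (X.O_ s)⁻¹) := by simp only [hYdef]; group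
      _ = _ := by rw [← ((X.O_Dl (hu.smul (-t)) s).inv_left).eq]; group
  have hYx : Y s₂ = X.x u := by
    have e1 := hconj s₁ s₂
    have e2 : X.O_ (s₁ + s₂) * X.x u * (X.O_ (s₁ + s₂))⁻¹ = Y (s₁ + s₂) * X.Dl ((s₁ + s₂) • u) := by
      simp only [hYdef]; rw [mul_assoc _ (X.Dl _), hDl, neg_add_cancel, hDl0, mul_one]
    rw [e2, hconst _ _ h12 h2, mul_assoc (Y s₂), hDl, show s₁ + s₂ + -s₂ = s₁ by ring] at e1
    -- conjugation by the first element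
    have e3 : X.Dl (s₁ • u) * (X.Dl ((-s₁) • u) * 1) = 1 := by rw [mul_one, hDl, add_neg_cancel, hDl0]
    have e4 : X.O_ s₁ * X.x u * (X.O_ s₁)⁻¹ = Y s₂ * X.Dl (s₁ • u) := by
      rw [← hconst s₁ s₂ h1 h2]
      simp only [hYdef]; rw [mul_assoc _ (X.Dl _), hDl, neg_add_cancel, hDl0, mul_one]
    exact mul_left_cancel (mul_right_cancel (e1.trans e4.symm))
  have := hconst σ s₂ hσ h2
  rw [hYx] at this
  simp only [hYdef] at this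
  have hDx : X.x u * X.Dl (σ • u) = X.Dl (σ • u) * X.x u := ((X.Dl_x hu σ).eq).symm
  rw [← hDx]
  calc X.O_ σ * X.x u * (X.O_ σ)⁻¹
      = X.O_ σ * X.x u * (X.O_ σ)⁻¹ * (X.Dl ((-σ) • u) * X.Dl (σ • u)) := by
        rw [hDl, neg_add_cancel, hDl0, mul_one]
    _ = _ := by rw [← mul_assoc, this]

/-- The group generated by the two short families at the ends. -/
def ED : Subgroup K := Subgroup.closure ({g | ∃ t, g = X.E_ t} ∪ {g | ∃ t, g = X.D_ t})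

theorem E_onM (t : F) {w : Vec n F} (hw : X.OnM w) : X.OnM (ap (θ (X.E_ t)) w) := by
  obtain ⟨p, q, rfl⟩ := hw
  refine ⟨p + q * t, q, ?_⟩
  rw [X.θE, ap_add, ap_smul, ap_smul, qh_fix (X.a_tb' t) _ (om_self _) (X.a_tb' t), ap_qh (X.a_tb' t),
    om_smul_right, X.bb', X.tbl.2.2.2.2.2.1]
  module

theorem D_onM (t : F) {w : Vec n F} (hw : X.OnM w) : X.OnM (ap (θ (X.D_ t)) w) := by
  obtain ⟨p, q, rfl⟩ := hw
  refine ⟨p, q + p * t, ?_⟩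
  rw [X.θD, ap_add, ap_smul, ap_smul, qh_fix (w := X.a') (v := t • X.b) (X.a'_tb t) 0 X.tbl.2.2.2.2.2.2.2.2.2.1
    (by rw [om_smul_right, om_self, mul_zero]), ap_qh (X.a'_tb t), X.aa', om_smul_right, X.ab]
  module

theorem ED_conj {g : K} (hg : g ∈ X.ED) : ∀ w v c, X.OnM w → X.OnM v → om w v = 0 →
    X.OnM (ap (θ g) w) ∧
    g * lift θ (GM X.ia) (qh w v c) * g⁻¹ = lift θ (GM X.ia) (qh (ap (θ g) w) (ap (θ g) v) c) := by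
  have gen : ∀ (y : K) (D : Subgroup K), Inj θ D → y ∈ D → GM X.ia ≤ D → (∀ w, X.OnM w → X.OnM (ap (θ y) w)) →
      ∀ w v c, X.OnM w → X.OnM v → om w v = 0 →
      y * lift θ (GM X.ia) (qh w v c) * y⁻¹ = lift θ (GM X.ia) (qh (ap (θ y) w) (ap (θ y) v) c) := by
    intro y D hD hy hle hon w v c hw hv h
    refine hD.eq (mul_mem (mul_mem hy (hle (lift_mem _))) (inv_mem hy)) (hle (lift_mem _)) ?_
    rw [map_mul, map_mul, map_inv, lift_spec (X.qh_mem_M hw hv c),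
      lift_spec (X.qh_mem_M (hon w hw) (hon v hv) c), qh_conj h]
  have step : ∀ y ∈ ({g | ∃ t, g = X.E_ t} ∪ {g | ∃ t, g = X.D_ t} : Set K),
      (∀ w, X.OnM w → X.OnM (ap (θ y) w)) ∧ ∀ w v c, X.OnM w → X.OnM v → om w v = 0 →
      y * lift θ (GM X.ia) (qh w v c) * y⁻¹ = lift θ (GM X.ia) (qh (ap (θ y) w) (ap (θ y) v) c) := by
    rintro y (⟨t, rfl⟩ | ⟨t, rfl⟩)
    · exact ⟨fun w => X.E_onM t, gen _ _ X.injDb (X.E_mem t) le_sup_left fun w => X.E_onM t⟩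
    · exact ⟨fun w => X.D_onM t, gen _ _ X.injDa (X.D_mem t) le_sup_left fun w => X.D_onM t⟩
  have hD_inv : ∀ t, (X.D_ t)⁻¹ = X.D_ (-t) := fun t =>
    X.injDa.eq (inv_mem (X.D_mem t)) (X.D_mem _) (by
      rw [map_inv, X.θD, X.θD, qh_inv (X.a'_tb t), neg_zero, neg_smul])
  induction hg using Subgroup.closure_induction_left with
  | one =>
    intro w v c hw hv h
    rw [map_one, ap_one, ap_one, one_mul, inv_one, mul_one]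
    exact ⟨hw, rfl⟩
  | mul_left y hy z _ ih =>
    intro w v c hw hv h
    obtain ⟨h1, e1⟩ := ih w v c hw hv h
    obtain ⟨h2, -⟩ := ih v v 0 hv hv (om_self v)
    obtain ⟨h3, h4⟩ := step y hy
    rw [map_mul, ap_mul, ap_mul]
    refine ⟨h3 _ h1, ?_⟩
    rw [← h4 _ _ c h1 h2 (by rw [om_ap, h]), ← e1]
    group
  | inv_mul_cancel y hy z _ ih =>
    intro w v c hw hv h
    obtain ⟨h1, e1⟩ := ih w v c hw hv h
    obtain ⟨h2, -⟩ := ih v v 0 hv hv (om_self v)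
    have hy' : y⁻¹ ∈ ({g | ∃ t, g = X.E_ t} ∪ {g | ∃ t, g = X.D_ t} : Set K) := by
      rcases hy with ⟨t, rfl⟩ | ⟨t, rfl⟩
      exacts [Or.inl ⟨-t, X.E_inv t⟩, Or.inr ⟨-t, hD_inv t⟩]
    obtain ⟨h3, h4⟩ := step y⁻¹ hy'
    rw [map_mul, ap_mul, ap_mul]
    refine ⟨h3 _ h1, ?_⟩
    rw [← h4 _ _ c h1 h2 (by rw [om_ap, h]), ← e1]
    group

/-- The element `wa·wb`. -/
noncomputable def Wt : K := X.wA 1 * X.wB 1

theorem θWt : θ X.Wt = wl X.a X.a' 1 * wl X.b X.b' 1 := by rw [Wt, map_mul, X.θwA, X.θwB]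

theorem Wt_a : ap (θ X.Wt) X.a = X.a' := by rw [X.θWt, ap_mul, X.wB_a, X.wA1_a]
theorem Wt_b : ap (θ X.Wt) X.b = X.b' := by rw [X.θWt, ap_mul, X.wB1_b, X.wA_fix X.inV_b']
theorem Wt_a' : ap (θ X.Wt) X.a' = -X.a := by rw [X.θWt, ap_mul, X.wB_a', X.wA1_a']
theorem Wt_b' : ap (θ X.Wt) X.b' = -X.b := by rw [X.θWt, ap_mul, X.wB1_b', ap_neg, X.wA_fix X.inV_b]

theorem Wt_A (s : F) : X.Wt * X.A_ s * X.Wt⁻¹ = X.An s := by
  have h1 := (X.A_G (X.GSb_le (X.wB_mem 1)) s).eq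
  calc X.Wt * X.A_ s * X.Wt⁻¹ = X.wA 1 * (X.wB 1 * X.A_ s * (X.wB 1)⁻¹) * (X.wA 1)⁻¹ := by rw [Wt]; group
    _ = X.wA 1 * X.A_ s * (X.wA 1)⁻¹ := by rw [h1, mul_inv_cancel_right]
    _ = _ := (X.amal.injS X.ia).eq (mul_mem (mul_mem (X.wA_mem 1) (X.A_mem_Sa s)) (inv_mem (X.wA_mem 1)))
        (X.An_mem s) (by rw [map_mul, map_mul, map_inv, X.θwA, X.θA, X.θAn, qh_conj (om_zero_right _), X.wA1_a, ap_zero])

theorem Wt_B (s : F) : X.Wt * X.B_ s * X.Wt⁻¹ = X.Bn s := by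
  have h2 : X.wB 1 * X.B_ s * (X.wB 1)⁻¹ = X.Bn s :=
    (X.amal.injS X.ib).eq (mul_mem (mul_mem (X.wB_mem 1) (X.B_mem_Sb s)) (inv_mem (X.wB_mem 1))) (X.Bn_mem s)
      (by rw [map_mul, map_mul, map_inv, X.θwB, X.θB, X.θBn, qh_conj (om_zero_right _), X.wB1_b, ap_zero])
  calc X.Wt * X.B_ s * X.Wt⁻¹ = X.wA 1 * (X.wB 1 * X.B_ s * (X.wB 1)⁻¹) * (X.wA 1)⁻¹ := by rw [Wt]; group
    _ = _ := by rw [h2, ← (X.wA_G (X.GSb_le (X.Bn_mem s)) 1).eq, mul_inv_cancel_right]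

theorem Wt_E (t : F) : X.Wt * X.E_ t * X.Wt⁻¹ = X.D_ (-t) := by
  calc X.Wt * X.E_ t * X.Wt⁻¹ = X.wA 1 * (X.wB 1 * X.E_ t * (X.wB 1)⁻¹) * (X.wA 1)⁻¹ := by rw [Wt]; group
    _ = _ := by rw [X.wB_E, X.wA_C]

theorem Wt_D (t : F) : X.Wt * X.D_ t * X.Wt⁻¹ = X.E_ (-t) := by
  have hsq : X.wA 1 * X.wA 1 * X.C_ t * (X.wA 1 * X.wA 1)⁻¹ = X.C_ (-t) := by
    refine X.Da_conj (mul_mem (X.mem_Da_S (X.wA_mem 1)) (X.mem_Da_S (X.wA_mem 1))) (X.mem_Da_M (X.C_mem t))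
      (X.mem_Da_M (X.C_mem _)) ?_
    rw [map_mul, X.θwA, X.θC, X.θC, qh_conj (X.a_tb t), ap_mul, X.wA1_a, X.wA1_a', ap_smul, ap_mul,
      X.wA_fix X.inV_b, X.wA_fix X.inV_b]
    rw [← neg_one_smul F X.a, qh_smul_left (X.a_tb t), smul_smul]
    simp
  have hc := (X.wA_wB 1 1).eq
  calc X.Wt * X.D_ t * X.Wt⁻¹
      = (X.wA 1 * X.wB 1) * X.wA 1 * X.C_ t * ((X.wA 1 * X.wB 1) * X.wA 1)⁻¹ := by rw [Wt, ← X.wA_C]; group
    _ = (X.wB 1 * (X.wA 1 * X.wA 1)) * X.C_ t * (X.wB 1 * (X.wA 1 * X.wA 1))⁻¹ := by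
        rw [← hc, mul_assoc (X.wB 1)]
    _ = X.wB 1 * (X.wA 1 * X.wA 1 * X.C_ t * (X.wA 1 * X.wA 1)⁻¹) * (X.wB 1)⁻¹ := by group
    _ = _ := by rw [hsq, X.wB_C]

/-- The Weyl elements of the short pair. -/
noncomputable def wE (l : F) : K := X.E_ l * X.D_ (-l⁻¹) * X.E_ l

theorem wE_mem (l : F) : X.wE l ∈ X.ED :=
  mul_mem (mul_mem (Subgroup.subset_closure (Or.inl ⟨_, rfl⟩)) (Subgroup.subset_closure (Or.inr ⟨_, rfl⟩)))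
    (Subgroup.subset_closure (Or.inl ⟨_, rfl⟩))

theorem wE_inv (l : F) : (X.wE l)⁻¹ = X.wE (-l) := by
  have hD : (X.D_ (-l⁻¹))⁻¹ = X.D_ l⁻¹ := X.injDa.eq (inv_mem (X.D_mem _)) (X.D_mem _) (by
    rw [map_inv, X.θD, X.θD, qh_inv (X.a'_tb _), neg_zero, neg_smul, neg_neg])
  rw [wE, wE, inv_neg, neg_neg, _root_.mul_inv_rev, _root_.mul_inv_rev, X.E_inv, hD, mul_assoc]

theorem ap_E (t : F) (v : Vec n F) : ap (θ (X.E_ t)) v = v + (t * om v X.a) • X.b' + (t * om v X.b') • X.a := by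
  rw [X.θE, ap_qh (X.a_tb' t), om_smul_right]; module

theorem ap_D (t : F) (v : Vec n F) : ap (θ (X.D_ t)) v = v + (t * om v X.a') • X.b + (t * om v X.b) • X.a' := by
  rw [X.θD, ap_qh (X.a'_tb t), om_smul_right]; module

theorem θwE {l : F} (hl : l ≠ 0) : ap (θ (X.wE l)) X.a = (-l⁻¹) • X.b ∧ ap (θ (X.wE l)) X.b = l • X.a ∧
    ap (θ (X.wE l)) X.a' = (-l) • X.b' ∧ ap (θ (X.wE l)) X.b' = l⁻¹ • X.a' := by
  obtain ⟨t1, t2, t3, t4, t5, t6, t7, t8, t9, t10, t11, t12⟩ := X.tbl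
  refine ⟨?_, ?_, ?_, ?_⟩ <;>
    simp only [wE, map_mul, ap_mul, X.ap_E, X.ap_D, om_add_left, om_smul_left, om_self, t1, t2, t3, t4, t5, t6, t7,
      t8, t9, t10, t11, t12, mul_zero, zero_smul, mul_one, add_zero, zero_add] <;>
    match_scalars <;> field_simp <;> ring

theorem ED_lift {g : K} (hg : g ∈ X.ED) {w v : Vec n F} (hw : X.OnM w) (hv : X.OnM v) (h : om w v = 0) (c : F)
    {y : K} (hy : y ∈ GM X.ia) {z : K} (hz : z ∈ GM X.ia) (ey : θ y = qh w v c)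
    (ez : θ z = qh (ap (θ g) w) (ap (θ g) v) c) : g * y * g⁻¹ = z := by
  rw [lift_eq X.injM hy ey, lift_eq X.injM hz ez, (X.ED_conj hg w v c hw hv h).2]

theorem wE_B {l : F} (hl : l ≠ 0) (s : F) : X.wE l * X.B_ s * (X.wE l)⁻¹ = X.A_ (l * l * s) :=
  X.ED_lift (X.wE_mem l) X.onM_b X.onM_zero (om_zero_right _) s (X.B_mem s) (X.A_mem _) (X.θB s)
    (by rw [X.θA, (X.θwE hl).2.1, ap_zero, qh_smul_left (om_zero_right _), smul_zero])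

theorem wE_C {l : F} (hl : l ≠ 0) (t : F) : X.wE l * X.C_ t * (X.wE l)⁻¹ = X.C_ (-t) := by
  refine X.ED_lift (X.wE_mem l) X.onM_a (X.onM_smul t X.onM_b) (X.a_tb t) 0 (X.C_mem t) (X.C_mem _) (X.θC t) ?_
  rw [X.θC, (X.θwE hl).1, ap_smul, (X.θwE hl).2.1]
  refine ext_ap fun v => ?_
  rw [ap_qh (X.a_tb _), ap_qh (by simp [om_neg_left, om_smul_left, om_smul_right, X.tbl.2.2.2.2.2.1])]
  simp only [om_smul_right]
  match_scalars <;> field_simp <;> ring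

theorem wE_W {l : F} (hl : l ≠ 0) :
    X.Wt⁻¹ * X.wE l * X.Wt ∈ X.ED ∧ ap (θ (X.Wt⁻¹ * X.wE l * X.Wt)) X.b = l⁻¹ • X.a ∧
      ap (θ (X.Wt⁻¹ * X.wE l * X.Wt)) X.a = (-l) • X.b := by
  refine ⟨?_, ?_, ?_⟩
  · have e1 : ∀ t, X.Wt⁻¹ * X.E_ t * X.Wt = X.D_ (-t) := fun t => by
      have := X.Wt_D (-t); rw [neg_neg] at this; rw [← this]; group
    have e2 : ∀ t, X.Wt⁻¹ * X.D_ t * X.Wt = X.E_ (-t) := fun t => by
      have := X.Wt_E (-t); rw [neg_neg] at this; rw [← this]; group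
    rw [show X.Wt⁻¹ * X.wE l * X.Wt = (X.Wt⁻¹ * X.E_ l * X.Wt) * (X.Wt⁻¹ * X.D_ (-l⁻¹) * X.Wt) *
      (X.Wt⁻¹ * X.E_ l * X.Wt) by rw [wE]; group, e1, e2]
    exact mul_mem (mul_mem (Subgroup.subset_closure (Or.inr ⟨_, rfl⟩)) (Subgroup.subset_closure (Or.inl ⟨_, rfl⟩)))
      (Subgroup.subset_closure (Or.inr ⟨_, rfl⟩))
  · refine ap_inj (g := θ X.Wt) ?_
    rw [map_mul, map_mul, map_inv, ap_mul, ap_mul, ap_inv', X.Wt_b, (X.θwE hl).2.2.2, ap_smul, X.Wt_a]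
  · refine ap_inj (g := θ X.Wt) ?_
    rw [map_mul, map_mul, map_inv, ap_mul, ap_mul, ap_inv', X.Wt_a, (X.θwE hl).2.2.1, ap_smul, X.Wt_b]

theorem wE_Bn {l : F} (hl : l ≠ 0) (s : F) : X.wE l * X.Bn s * (X.wE l)⁻¹ = X.An (s / (l * l)) := by
  obtain ⟨h1, h2, -⟩ := X.wE_W hl
  have e := X.ED_lift h1 X.onM_b X.onM_zero (om_zero_right _) s (X.B_mem s) (X.A_mem (s / (l * l))) (X.θB s)
    (by rw [X.θA, h2, ap_zero, qh_smul_left (om_zero_right _), smul_zero]; congr 1; field_simp)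
  rw [← X.Wt_B, ← X.Wt_A, ← e]; group

theorem wE_An {l : F} (hl : l ≠ 0) (s : F) : X.wE l * X.An s * (X.wE l)⁻¹ = X.Bn (l * l * s) := by
  obtain ⟨h1, -, h3⟩ := X.wE_W hl
  have e := X.ED_lift h1 X.onM_a X.onM_zero (om_zero_right _) s (X.A_mem s) (X.B_mem (l * l * s)) (X.θA s)
    (by rw [X.θB, h3, ap_zero, qh_smul_left (om_zero_right _), smul_zero]; congr 1; ring)
  rw [← X.Wt_B, ← X.Wt_A, ← e]; group

theorem wA_eq (s : F) : X.wA s = X.A_ s * X.An s⁻¹ * X.A_ s :=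
  (X.amal.injS _).eq (X.wA_mem s) (mul_mem (mul_mem (X.A_mem_Sa s) (X.An_mem _)) (X.A_mem_Sa s))
    (by rw [map_mul, map_mul, X.θwA, X.θA, X.θAn]; rfl)

theorem wE_wB {l : F} (hl : l ≠ 0) {s : F} (hs : s ≠ 0) : X.wE l * X.wB s * (X.wE l)⁻¹ = X.wA (l * l * s) := by
  calc X.wE l * X.wB s * (X.wE l)⁻¹
      = (X.wE l * X.B_ s * (X.wE l)⁻¹) * (X.wE l * X.Bn s⁻¹ * (X.wE l)⁻¹) * (X.wE l * X.B_ s * (X.wE l)⁻¹) := by
        rw [X.wB_eq]; group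
    _ = _ := by rw [X.wE_B hl, X.wE_Bn hl, X.wA_eq]; congr 2; congr 1; field_simp

theorem wE_D {l : F} (hl : l ≠ 0) (x : F) : X.wE l * X.D_ x * (X.wE l)⁻¹ = X.E_ (-(l * l * x)) := by
  have hD : X.D_ x = X.An x * X.C_ 1 * (X.An x)⁻¹ * (X.C_ 1)⁻¹ * (X.B_ (-x))⁻¹ := by
    rw [X.An_C, mul_one, mul_one, mul_inv_cancel_right, mul_inv_cancel_right]
  have e : X.wE l * X.D_ x * (X.wE l)⁻¹ =
      X.Bn (l * l * x) * X.C_ (-1) * (X.Bn (l * l * x))⁻¹ * (X.C_ (-1))⁻¹ * (X.A_ (l * l * (-x)))⁻¹ := by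
    calc X.wE l * X.D_ x * (X.wE l)⁻¹
        = (X.wE l * X.An x * (X.wE l)⁻¹) * (X.wE l * X.C_ 1 * (X.wE l)⁻¹) * (X.wE l * X.An x * (X.wE l)⁻¹)⁻¹ *
            (X.wE l * X.C_ 1 * (X.wE l)⁻¹)⁻¹ * (X.wE l * X.B_ (-x) * (X.wE l)⁻¹)⁻¹ := by rw [hD]; group
      _ = _ := by rw [X.wE_An hl, X.wE_C hl, X.wE_B hl]
  have hmem : X.wE l * X.D_ x * (X.wE l)⁻¹ ∈ X.Db := by
    rw [e]
    have h1 : X.Bn (l * l * x) ∈ X.Db := X.mem_Db_S (X.Bn_mem _)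
    have h2 : X.C_ (-1) ∈ X.Db := X.mem_Db_M (X.C_mem _)
    exact mul_mem (mul_mem (mul_mem (mul_mem h1 h2) (inv_mem h1)) (inv_mem h2)) (inv_mem (X.mem_Db_M (X.A_mem _)))
  refine X.injDb.eq hmem (X.E_mem _) ?_
  rw [map_mul, map_mul, map_inv, X.θD, qh_conj (X.a'_tb x), (X.θwE hl).2.2.1, ap_smul, (X.θwE hl).2.1, X.θE]
  refine ext_ap fun v => ?_
  rw [ap_qh (X.a_tb' _), ap_qh (by simp [om_neg_left, om_smul_left, om_smul_right, X.tbl.2.2.2.2.2.2.2.1])]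
  simp only [om_smul_right]
  module

/-- The Weyl elements of the pair `C`, `O`. -/
noncomputable def wC (l : F) : K := X.C_ l * X.O_ l⁻¹ * X.C_ l

theorem wC_eq (l : F) : X.wC l = X.wB 1 * X.wE (-l) * (X.wB 1)⁻¹ := by
  have h1 : X.wB 1 * X.E_ (-l) * (X.wB 1)⁻¹ = X.C_ l := by rw [X.wB_E, neg_neg]
  calc X.wC l = (X.wB 1 * X.E_ (-l) * (X.wB 1)⁻¹) * (X.wB 1 * X.D_ (l⁻¹) * (X.wB 1)⁻¹) *
        (X.wB 1 * X.E_ (-l) * (X.wB 1)⁻¹) := by rw [h1, ← X.O_eq_D]; rfl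
    _ = _ := by rw [wE, inv_neg, neg_neg]; group

theorem wC_O {l : F} (hl : l ≠ 0) (x : F) : X.wC l * X.O_ x * (X.wC l)⁻¹ = X.C_ (l * l * x) := by
  calc X.wC l * X.O_ x * (X.wC l)⁻¹
      = X.wB 1 * (X.wE (-l) * X.D_ x * (X.wE (-l))⁻¹) * (X.wB 1)⁻¹ := by rw [X.wC_eq, X.O_eq_D]; group
    _ = _ := by rw [X.wE_D (neg_ne_zero.2 hl), X.wB_E]; ring_nf

theorem wC_alt {l : F} (hl : l ≠ 0) : X.wC l = X.O_ l⁻¹ * X.C_ l * X.O_ l⁻¹ := by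
  have h := X.wC_O hl l⁻¹
  rw [mul_inv_cancel_right₀ hl, mul_inv_eq_iff_eq_mul, wC] at h
  rw [wC]
  simp only [mul_assoc] at h ⊢
  exact (mul_left_cancel h).symm

theorem wB_wE {l s : F} (hl : l ≠ 0) (hs : s ≠ 0) :
    X.wB s * X.wE l * (X.wB s)⁻¹ = X.wC (-(s * l)) := by
  have hE : X.wB s * X.E_ l * (X.wB s)⁻¹ = X.C_ (-(s * l)) := by
    refine X.Db_conj (X.mem_Db_S (X.wB_mem s)) (X.E_mem l) (X.mem_Db_M (X.C_mem _)) ?_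
    rw [X.θwB, X.θE, X.θC, qh_conj (X.a_tb' l), X.wB_a, ap_smul, X.wB_b' hs, smul_smul]
    congr 1; module
  have hCE : X.wB s * X.C_ (-l⁻¹) * (X.wB s)⁻¹ = X.E_ (-(s * l))⁻¹ := by
    refine X.Db_conj (X.mem_Db_S (X.wB_mem s)) (X.mem_Db_M (X.C_mem _)) (X.E_mem _) ?_
    rw [X.θwB, X.θE, X.θC, qh_conj (X.a_tb _), X.wB_a, ap_smul, X.wB_b hs, smul_smul]
    congr 2; field_simp
  have hD : X.wB s * X.D_ (-l⁻¹) * (X.wB s)⁻¹ = X.O_ (-(s * l))⁻¹ := by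
    rw [← X.wA_C, O_, ← hCE]
    calc X.wB s * (X.wA 1 * X.C_ (-l⁻¹) * (X.wA 1)⁻¹) * (X.wB s)⁻¹
        = (X.wB s * X.wA 1) * X.C_ (-l⁻¹) * (X.wB s * X.wA 1)⁻¹ := by group
      _ = (X.wA 1 * X.wB s) * X.C_ (-l⁻¹) * (X.wA 1 * X.wB s)⁻¹ := by rw [(X.wA_wB s 1).eq]
      _ = _ := by group
  calc X.wB s * X.wE l * (X.wB s)⁻¹
      = (X.wB s * X.E_ l * (X.wB s)⁻¹) * (X.wB s * X.D_ (-l⁻¹) * (X.wB s)⁻¹) * (X.wB s * X.E_ l * (X.wB s)⁻¹) := by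
        rw [wE]; group
    _ = _ := by rw [hE, hD]; rfl

theorem wE_symbol {l : F} (hl : l ≠ 0) :
    X.wE l * (X.wE 1)⁻¹ = X.wA l * (X.wA 1)⁻¹ * ((X.wB l⁻¹)⁻¹ * X.wB 1) := by
  have key : ∀ {l : F}, l ≠ 0 → X.wE l = X.wA l * (X.wB l⁻¹)⁻¹ * X.wC (-1) := by
    intro l hl
    have h1 := X.wB_wE hl (inv_ne_zero hl)
    rw [inv_mul_cancel₀ hl] at h1
    have h2 := X.wE_wB hl (inv_ne_zero hl)
    rw [mul_inv_cancel_right₀ hl] at h2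
    rw [← h1, ← h2]; group
  rw [key hl, key one_ne_zero, inv_one]
  calc X.wA l * (X.wB l⁻¹)⁻¹ * X.wC (-1) * (X.wA 1 * (X.wB 1)⁻¹ * X.wC (-1))⁻¹
      = X.wA l * (((X.wB l⁻¹)⁻¹ * X.wB 1) * (X.wA 1)⁻¹) := by group
    _ = _ := by rw [((X.wA_wB l⁻¹ 1).inv_left.mul_left (X.wA_wB 1 1)).inv_right.eq, mul_assoc]

theorem pair_decomp (α β γ : F) :
    ∃ u v w, ∃ k', (k' = 1 ∨ ∃ l m : F, l ≠ 0 ∧ m ≠ 0 ∧
        k' = X.wB 1 * ((X.wE l * (X.wE 1)⁻¹) * (X.wE m * (X.wE 1)⁻¹)⁻¹) * (X.wB 1)⁻¹) ∧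
      X.O_ α * X.C_ β * X.O_ γ = X.C_ u * k' * X.O_ v * X.C_ w := by
  by_cases hα : α = 0
  · refine ⟨β, γ, 0, 1, Or.inl rfl, ?_⟩
    rw [hα, X.O_zero, X.C_zero]; group
  set l := α⁻¹ with hldef
  have hl : l ≠ 0 := inv_ne_zero hα
  have e1 : X.O_ α = X.C_ (-l) * X.wC l * X.C_ (-l) := by
    rw [wC, hldef, inv_inv, ← X.C_inv]; group
  by_cases hm : β - l = 0
  · refine ⟨-l + l * l * γ + l, l⁻¹, l, 1, Or.inl rfl, ?_⟩
    calc X.O_ α * X.C_ β * X.O_ γ = X.C_ (-l) * X.wC l * (X.C_ (-l) * X.C_ β) * X.O_ γ := by rw [e1]; group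
      _ = X.C_ (-l) * X.wC l * X.O_ γ := by rw [X.C_add, neg_add_eq_sub, hm, X.C_zero, mul_one]
      _ = X.C_ (-l) * X.C_ (l * l * γ) * X.wC l := by rw [← X.wC_O hl γ]; group
      _ = _ := by rw [X.C_add, wC, ← mul_assoc, ← mul_assoc, X.C_add]; group
  set m := β - l with hmdef
  refine ⟨-l + l * l * (-m⁻¹), -m⁻¹ + γ, 0, X.wC l * X.wC m, Or.inr ⟨-l, m, neg_ne_zero.2 hl, hm, ?_⟩, ?_⟩
  · have : X.wE (-m) = (X.wE m)⁻¹ := (X.wE_inv m).symm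
    rw [X.wC_eq, X.wC_eq, this]; group
  · have e2 : X.C_ m = X.O_ (-m⁻¹) * X.wC m * X.O_ (-m⁻¹) := by
      rw [X.wC_alt hm, ← X.O_inv]; group
    calc X.O_ α * X.C_ β * X.O_ γ = X.C_ (-l) * X.wC l * (X.C_ (-l) * X.C_ β) * X.O_ γ := by rw [e1]; group
      _ = X.C_ (-l) * (X.wC l * X.O_ (-m⁻¹)) * X.wC m * (X.O_ (-m⁻¹) * X.O_ γ) := by
          rw [X.C_add, neg_add_eq_sub, ← hmdef, e2]; group
      _ = (X.C_ (-l) * X.C_ (l * l * (-m⁻¹))) * X.wC l * X.wC m * X.O_ (-m⁻¹ + γ) := by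
          rw [X.O_add, ← X.wC_O hl]; group
      _ = _ := by rw [X.C_add, X.C_zero]; group

end Ctx

end Cfsg.Agent.SlimSp
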