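import Mathlib
import Cfsg.Agent.Lib.Recog.SlimSp.Pair

/-! The inductive step: injectivity, and the induction. -/

set_option autoImplicit false
set_option linter.unusedSectionVars false
set_option maxHeartbeats 1000000

namespace Cfsg.Agent.SlimSp

open Matrix

variable {F : Type*} [Field F] {n : ℕ} {K : Type*} [Group K] {θ : K →* Sp n F} {GS GM : Fin n → Subgroup K}

/-- Products in the join of a subgroup normalised by another. -/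
theorem mem_sup_norm {G : Type*} [Group G] {H N : Subgroup G} (h : ∀ x ∈ H, ∀ y ∈ N, x * y * x⁻¹ ∈ N)
    {z : G} (hz : z ∈ H ⊔ N) : ∃ x ∈ H, ∃ y ∈ N, z = x * y := by
  have hle : H ≤ Subgroup.normalizer (N : Set G) := fun x hx => by
    rw [Subgroup.mem_normalizer_iff]
    refine fun y => ⟨fun hy => h x hx y hy, fun hy => ?_⟩
    have := h x⁻¹ (inv_mem hx) _ hy
    rwa [show x⁻¹ * (x * y * x⁻¹) * x⁻¹⁻¹ = y by group] at this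
  have : z ∈ ((H ⊔ N : Subgroup G) : Set G) := hz
  rw [Subgroup.coe_mul_of_left_le_normalizer_right H N hle] at this
  obtain ⟨x, hx, y, hy, e⟩ := this
  exact ⟨x, hx, y, hy, e.symm⟩

/-- Generation of a plane subgroup by its two root subgroups. -/
theorem Sj_gen {j : Fin n} {T : Subgroup (Sp n F)} (he : ∀ s : F, qh (eV j) 0 s ∈ T)
    (hf : ∀ s : F, qh (fV j) 0 s ∈ T) {g : Sp n F} (hg : g ∈ Sj j) : g ∈ T := by
  have h1 : om (eV j) (fV j : Vec n F) = 1 := om_basis j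
  have h2 : om (fV j) (eV j : Vec n F) = -1 := by rw [om_swap, h1]
  have main : ∀ g ∈ Sj j, ap g (eV j) (.inr j) ≠ (0 : F) → g ∈ T := by
    intro g hg hq
    have e := plane_eq (Sj_onJ hg (onJ_eV j))
    set p := ap g (eV j) (.inl j)
    set q := ap g (eV j) (.inr j)
    set h := qh (eV j) 0 ((1 - p) / q) * qh (fV j) 0 q
    have hhT : h ∈ T := mul_mem (he _) (hf _)
    have hhS : h ∈ Sj j :=
      mul_mem (qh_mem_Sj (onJ_eV j) (onJ_zero j) _) (qh_mem_Sj (onJ_fV j) (onJ_zero j) _)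
    have hh : ap h (eV j) = ap g (eV j) := by
      rw [e]
      simp only [h, ap_mul, ap_qh (om_zero_right _), om_zero_right, om_self, om_add_left, om_smul_left, h1, h2,
        mul_zero, mul_one, smul_zero, zero_smul, add_zero]
      match_scalars <;> field_simp <;> ring
    have h3 : h⁻¹ * g ∈ Sj j := mul_mem (inv_mem hhS) hg
    have h4 : ap (h⁻¹ * g) (eV j) = eV j := by rw [ap_mul, ← hh, ap_inv]
    have e' := plane_eq (Sj_onJ h3 (onJ_fV j))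
    have hc : ap (h⁻¹ * g) (fV j) (.inr j) = 1 := by
      have := om_ap (h⁻¹ * g) (eV j) (fV j)
      rwa [h4, eV_om, h1] at this
    rw [hc, one_smul] at e'
    set δ := ap (h⁻¹ * g) (fV j) (.inl j)
    have h5 : h⁻¹ * g = qh (eV j) 0 (-δ) := by
      refine ext_basis (fun i => ?_) (fun i => ?_) <;> by_cases hi : i = j
      · subst hi; rw [h4, qh_fix (om_zero_right _) _ (om_self _) (om_zero_right _)]
      · rw [(h3 i hi).1, (qh_mem_Sj (onJ_eV j) (onJ_zero j) (-δ) i hi).1]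
      · subst hi; rw [e', ap_qh (om_zero_right _), om_zero_right, h2]; module
      · rw [(h3 i hi).2, (qh_mem_Sj (onJ_eV j) (onJ_zero j) (-δ) i hi).2]
    rw [show g = h * (h⁻¹ * g) by group, h5]
    exact mul_mem hhT (he _)
  by_cases hq : ap g (eV j) (.inr j) = 0
  · have hw : wl (eV j) (fV j) (1 : F) ∈ T := mul_mem (mul_mem (he _) (hf _)) (he _)
    have h3 := main _ (mul_mem (wl_mem_Sj (1 : F)) hg) ?_
    · simpa using mul_mem (inv_mem hw) h3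
    · have e := plane_eq (Sj_onJ hg (onJ_eV j))
      rw [hq, zero_smul, add_zero] at e
      intro h0
      rw [ap_mul, e, ap_smul, wl_fst h1 one_ne_zero] at h0
      simp at h0
      exact eV_ne j (ap_inj (g := g) (by rw [e, h0, zero_smul, ap_zero]))
  · exact main g hg hq

namespace Ctx

variable {k : ℕ} (X : Ctx θ GS GM k)
include X

theorem ha_mul {r r' : F} (hr : r ≠ 0) (hr' : r' ≠ 0) : X.ha r * X.ha r' = X.ha (r * r') :=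
  (X.amal.injS X.ia).eq (mul_mem (X.ha_mem r) (X.ha_mem r')) (X.ha_mem _)
    (by rw [map_mul, X.θha, X.θha, X.θha, hl_mul hr hr'])

theorem ha_one : X.ha 1 = 1 :=
  X.amal.injS X.ia _ (X.ha_mem 1) (by rw [X.θha, hl, mul_inv_cancel])

theorem ha_inv {r : F} (hr : r ≠ 0) : (X.ha r)⁻¹ = X.ha r⁻¹ :=
  inv_eq_of_mul_eq_one_right (by rw [X.ha_mul hr (inv_ne_zero hr), mul_inv_cancel₀ hr, X.ha_one])

theorem ha_G {γ : K} (hγ : γ ∈ Gam GS GM (k + 1)) (r : F) : Commute γ (X.ha r) := X.a_comm_G (X.ha_mem r) hγ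

/-- The Levi subgroup. -/
def AA : Subgroup K where
  carrier := {g | ∃ r γ, r ≠ 0 ∧ γ ∈ Gam GS GM (k + 1) ∧ g = X.ha r * γ}
  one_mem' := ⟨1, 1, one_ne_zero, one_mem _, by rw [X.ha_one, one_mul]⟩
  mul_mem' := by
    rintro _ _ ⟨r, γ, hr, hγ, rfl⟩ ⟨r', γ', hr', hγ', rfl⟩
    refine ⟨r * r', γ * γ', mul_ne_zero hr hr', mul_mem hγ hγ', ?_⟩
    rw [← X.ha_mul hr hr']
    calc X.ha r * γ * (X.ha r' * γ') = X.ha r * (γ * X.ha r') * γ' := by group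
      _ = _ := by rw [(X.ha_G hγ r').eq]; group
  inv_mem' := by
    rintro _ ⟨r, γ, hr, hγ, rfl⟩
    refine ⟨r⁻¹, γ⁻¹, inv_ne_zero hr, inv_mem hγ, ?_⟩
    rw [_root_.mul_inv_rev, X.ha_inv hr, (X.ha_G (inv_mem hγ) r⁻¹).eq]

theorem G_le_AA : Gam GS GM (k + 1) ≤ X.AA := fun γ hγ => ⟨1, γ, one_ne_zero, hγ, by rw [X.ha_one, one_mul]⟩
theorem ha_mem_AA {r : F} (hr : r ≠ 0) : X.ha r ∈ X.AA := ⟨r, 1, hr, one_mem _, by rw [mul_one]⟩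

/-- The radical. -/
def Qr : Subgroup K where
  carrier := {g | ∃ v c, InV (k + 1) v ∧ g = X.x v * X.A_ c}
  one_mem' := ⟨0, 0, InV.zero _, by rw [X.x_zero, X.A_zero, one_mul]⟩
  mul_mem' := by
    rintro _ _ ⟨v, c, hv, rfl⟩ ⟨w, d, hw, rfl⟩
    refine ⟨v + w, om w v + (c + d), hv.add hw, ?_⟩
    calc X.x v * X.A_ c * (X.x w * X.A_ d) = X.x v * (X.A_ c * X.x w) * X.A_ d := by group
      _ = (X.x v * X.x w) * (X.A_ c * X.A_ d) := by rw [(X.A_x c w).eq]; group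
      _ = _ := by rw [X.x_mul hv hw, mul_assoc, X.A_add, X.A_add]
  inv_mem' := by
    rintro _ ⟨v, c, hv, rfl⟩
    refine ⟨-v, -c, hv.neg, inv_eq_of_mul_eq_one_right ?_⟩
    calc X.x v * X.A_ c * (X.x (-v) * X.A_ (-c)) = X.x v * (X.A_ c * X.x (-v)) * X.A_ (-c) := by group
      _ = (X.x v * X.x (-v)) * (X.A_ c * X.A_ (-c)) := by rw [(X.A_x c (-v)).eq]; group
      _ = _ := by
        rw [X.x_mul hv hv.neg, add_neg_cancel, X.x_zero, om_neg_left, om_self, neg_zero, one_mul, X.A_add, X.A_zero,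
          one_mul, add_neg_cancel, X.A_zero]

theorem x_mem_Qr {v : Vec n F} (hv : InV (k + 1) v) : X.x v ∈ X.Qr := ⟨v, 0, hv, by rw [X.A_zero, mul_one]⟩
theorem A_mem_Qr (c : F) : X.A_ c ∈ X.Qr := ⟨0, c, InV.zero _, by rw [X.x_zero, one_mul]⟩
theorem C_mem_Qr (t : F) : X.C_ t ∈ X.Qr := by rw [← X.x_tb]; exact X.x_mem_Qr (X.inV_b.smul t)
theorem E_mem_Qr (t : F) : X.E_ t ∈ X.Qr := by rw [← X.x_tb']; exact X.x_mem_Qr (X.inV_b'.smul t)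

theorem ha_x {r : F} (hr : r ≠ 0) {v : Vec n F} (hv : InV (k + 1) v) :
    X.ha r * X.x v * (X.ha r)⁻¹ = X.x (r • v) := by
  by_cases h0 : v = 0
  · subst h0; rw [smul_zero, X.x_zero, mul_one, mul_inv_cancel]
  obtain ⟨γ, hγ, e⟩ := X.exists_to hv h0
  have hc : X.ha r * X.C_ 1 * (X.ha r)⁻¹ = X.C_ r := by
    refine X.Da_conj (X.mem_Da_S (X.ha_mem r)) (X.mem_Da_M (X.C_mem 1)) (X.mem_Da_M (X.C_mem r)) ?_
    rw [X.θha, X.θC, X.θC, qh_conj (X.a_tb 1), hl_fst X.aa' hr, one_smul,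
      hl_fix r (X.perp X.inV_b).2.2.1 (X.perp X.inV_b).2.2.2, qh_smul_left X.ab, mul_zero]
  calc X.ha r * X.x v * (X.ha r)⁻¹ = (X.ha r * γ) * X.C_ 1 * (X.ha r * γ)⁻¹ := by rw [X.x_spec hγ e]; group
    _ = γ * (X.ha r * X.C_ 1 * (X.ha r)⁻¹) * γ⁻¹ := by rw [← (X.ha_G hγ r).eq]; group
    _ = _ := by rw [hc, ← X.x_tb r, X.x_conj hγ (X.inV_b.smul r), ap_smul, e]

theorem ha_A {r : F} (hr : r ≠ 0) (c : F) : X.ha r * X.A_ c * (X.ha r)⁻¹ = X.A_ (r * r * c) :=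
  (X.amal.injS X.ia).eq (mul_mem (mul_mem (X.ha_mem r) (X.A_mem_Sa c)) (inv_mem (X.ha_mem r))) (X.A_mem_Sa _)
    (by rw [map_mul, map_mul, map_inv, X.θha, X.θA, X.θA, qh_conj (om_zero_right _), hl_fst X.aa' hr, ap_zero,
      qh_smul_left (om_zero_right _), smul_zero])

theorem AA_Qr : ∀ h ∈ X.AA, ∀ q ∈ X.Qr, h * q * h⁻¹ ∈ X.Qr := by
  rintro _ ⟨r, γ, hr, hγ, rfl⟩ _ ⟨v, c, hv, rfl⟩
  have h1 : γ * (X.x v * X.A_ c) * γ⁻¹ = X.x (ap (θ γ) v) * X.A_ c := by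
    calc γ * (X.x v * X.A_ c) * γ⁻¹ = (γ * X.x v * γ⁻¹) * (γ * X.A_ c * γ⁻¹) := by group
      _ = _ := by rw [X.x_conj hγ hv, (X.A_G hγ c).eq, mul_inv_cancel_right]
  have hv' : InV (k + 1) (ap (θ γ) v) := ap_inV (X.mem_G_Spk hγ) hv
  rw [show X.ha r * γ * (X.x v * X.A_ c) * (X.ha r * γ)⁻¹ =
    X.ha r * (γ * (X.x v * X.A_ c) * γ⁻¹) * (X.ha r)⁻¹ by group, h1]
  refine ⟨r • ap (θ γ) v, r * r * c, hv'.smul r, ?_⟩
  rw [← X.ha_x hr hv', ← X.ha_A hr]; group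

/-- The opposite radical. -/
noncomputable def Rr : Subgroup K := (X.Qr).map (MulAut.conj (X.wA 1)).toMonoidHom

theorem mem_Rr {g : K} : g ∈ X.Rr ↔ ∃ q ∈ X.Qr, g = X.wA 1 * q * (X.wA 1)⁻¹ := by
  simp [Rr, Subgroup.mem_map, eq_comm]

theorem O_mem_Rr (t : F) : X.O_ t ∈ X.Rr := X.mem_Rr.2 ⟨_, X.E_mem_Qr t, rfl⟩

theorem wA_ha {r : F} (hr : r ≠ 0) : X.wA 1 * X.ha r * (X.wA 1)⁻¹ = X.ha r⁻¹ :=
  (X.amal.injS X.ia).eq (mul_mem (mul_mem (X.wA_mem 1) (X.ha_mem r)) (inv_mem (X.wA_mem 1))) (X.ha_mem _)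
    (by rw [map_mul, map_mul, map_inv, X.θwA, X.θha, X.θha, hl_wl hr])

theorem AA_Rr : ∀ h ∈ X.AA, ∀ g ∈ X.Rr, h * g * h⁻¹ ∈ X.Rr := by
  rintro _ ⟨r, γ, hr, hγ, rfl⟩ g hg
  obtain ⟨q, hq, rfl⟩ := X.mem_Rr.1 hg
  have e : X.ha r * γ = X.wA 1 * (X.ha r⁻¹ * γ) * (X.wA 1)⁻¹ := by
    calc X.ha r * γ = (X.wA 1 * X.ha r⁻¹ * (X.wA 1)⁻¹) * γ := by rw [X.wA_ha (inv_ne_zero hr), inv_inv]
      _ = X.wA 1 * X.ha r⁻¹ * ((X.wA 1)⁻¹ * γ) := by group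
      _ = _ := by rw [← ((X.wA_G hγ 1).inv_right).eq]; group
  exact X.mem_Rr.2 ⟨_, X.AA_Qr _ ⟨r⁻¹, γ, inv_ne_zero hr, hγ, rfl⟩ q hq, by rw [e]; group⟩

/-- The parabolic subgroup. -/
abbrev Pp : Subgroup K := X.AA ⊔ X.Qr

theorem Qr_θ {q : K} (hq : q ∈ X.Qr) : ∃ v c, InV (k + 1) v ∧ θ q = qh X.a v c ∧ q = X.x v * X.A_ c := by
  obtain ⟨v, c, hv, rfl⟩ := hq
  refine ⟨v, c, hv, ?_, rfl⟩
  rw [map_mul, X.θx hv, X.θA, qh_mul (X.perp hv).1 (om_zero_right _)]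
  simp [om_zero_left]

theorem Pp_a {g : K} (hg : g ∈ X.Pp) : ∃ r : F, ap (θ g) X.a = r • X.a := by
  obtain ⟨h, ⟨r, γ, hr, hγ, rfl⟩, q, hq, rfl⟩ := mem_sup_norm X.AA_Qr hg
  obtain ⟨v, c, hv, e, -⟩ := X.Qr_θ hq
  refine ⟨r, ?_⟩
  rw [map_mul, map_mul, ap_mul, ap_mul, e, qh_fix (X.perp hv).1 _ (om_self _) (X.perp hv).1, (X.G_fix_a hγ).1,
    X.θha, hl_fst X.aa' hr]

theorem injP : Inj θ X.Pp := by
  intro g hg e1
  obtain ⟨h, ⟨r, γ, hr, hγ, rfl⟩, q, hq, rfl⟩ := mem_sup_norm X.AA_Qr hg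
  obtain ⟨v, c, hv, e, hqe⟩ := X.Qr_θ hq
  have ea : r • X.a = X.a := by
    have : ap (θ (X.ha r * γ * q)) X.a = X.a := by rw [e1, ap_one]
    rwa [map_mul, map_mul, ap_mul, ap_mul, e, qh_fix (X.perp hv).1 _ (om_self _) (X.perp hv).1, (X.G_fix_a hγ).1,
      X.θha, hl_fst X.aa' hr] at this
  have hr1 : r = 1 := by
    have := congrArg (fun y => om y X.a') ea
    simpa [om_smul_left, X.aa'] using this
  subst hr1
  rw [X.ha_one, one_mul, map_mul] at e1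
  have eq : qh X.a v c = θ γ⁻¹ := by rw [map_inv, ← e]; exact (inv_eq_of_mul_eq_one_right e1).symm
  have e2 : ap (qh X.a v c) X.a' = X.a' := by rw [eq]; exact (X.G_fix_a (inv_mem hγ)).2
  rw [ap_qh (X.perp hv).1, X.tbl.2.1, (X.perp hv).2.1] at e2
  have hc : c = 0 := by
    have := congrArg (fun y => om y X.a') e2
    simpa [om_add_left, om_smul_left, om_neg_left, X.aa', om_self, (X.perp hv).2.2.2] using this
  subst hc
  have hv0 : v = 0 := by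
    simpa using e2
  subst hv0
  have hq1 : q = 1 := by rw [hqe, X.x_zero, X.A_zero, one_mul]
  rw [hq1, map_one, mul_one] at e1
  rw [X.ha_one, hq1, one_mul, mul_one]
  exact X.ih γ hγ e1

theorem Rr_Pp {r g : K} (hr : r ∈ X.Rr) (hg : g ∈ X.Pp) (e : θ r = θ g) : r = 1 := by
  obtain ⟨q, hq, rfl⟩ := X.mem_Rr.1 hr
  obtain ⟨v, c, hv, eq, hqe⟩ := X.Qr_θ hq
  obtain ⟨s, hs⟩ := X.Pp_a hg
  rw [← e, map_mul, map_mul, map_inv, eq, X.θwA, qh_conj (X.perp hv).1, X.wA1_a, X.wA_fix hv,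
    ap_qh (X.perp hv).2.1, X.aa', (X.perp hv).1] at hs
  have hc : c = 0 := by
    have := congrArg (fun y => om X.a y) hs
    simpa [om_add_right, om_smul_right, X.aa', om_self, (X.perp hv).1] using this
  subst hc
  have hs1 : s = 1 := by
    have := congrArg (fun y => om X.a' y) hs
    simpa [om_add_right, om_smul_right, X.tbl.2.1, om_self, (X.perp hv).2.1] using this.symm
  subst hs1
  have hv0 : v = 0 := by simpa using hs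
  subst hv0
  rw [hqe, X.x_zero, X.A_zero, one_mul, mul_one, mul_inv_cancel]

theorem O_conj_E (σ μ : F) : X.O_ σ * X.E_ μ * (X.O_ σ)⁻¹ = X.E_ μ * X.Bn (2 * (σ * μ)) := by
  have hD : X.D_ σ * X.C_ μ * (X.D_ σ)⁻¹ = X.C_ μ * X.B_ (2 * (σ * μ)) := by
    refine X.Da_conj (X.D_mem σ) (X.mem_Da_M (X.C_mem μ)) (mul_mem (X.mem_Da_M (X.C_mem _)) (X.mem_Da_M (X.B_mem _))) ?_
    have e1 : ap (qh X.a' (σ • X.b) 0) X.a = X.a + σ • X.b := by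
      rw [ap_qh (X.a'_tb σ), X.aa', om_smul_right, X.ab]; module
    rw [X.θD, map_mul, X.θC, X.θB, qh_conj (X.a_tb μ), e1,
      qh_fix (X.a'_tb σ) _ (by rw [om_smul_left, X.tbl.2.2.2.2.2.2.2.2.2.1, mul_zero])
        (by rw [om_smul_left, om_smul_right, om_self]; ring),
      qh_split X.ab (X.a_tb μ) (by rw [om_smul_right, om_self, mul_zero]) σ]
    congr 1
    rw [smul_smul]
    have := qh_shift (v := (0 : Vec n F)) (om_zero_right X.b) (σ * μ) 0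
    simpa using this
  have hB : X.wB 1 * X.B_ (2 * (σ * μ)) * (X.wB 1)⁻¹ = X.Bn (2 * (σ * μ)) :=
    (X.amal.injS X.ib).eq (mul_mem (mul_mem (X.wB_mem 1) (X.B_mem_Sb _)) (inv_mem (X.wB_mem 1))) (X.Bn_mem _)
      (by rw [map_mul, map_mul, map_inv, X.θwB, X.θB, X.θBn, qh_conj (om_zero_right _), X.wB1_b, ap_zero])
  calc X.O_ σ * X.E_ μ * (X.O_ σ)⁻¹
      = X.wB 1 * (X.D_ σ * X.C_ μ * (X.D_ σ)⁻¹) * (X.wB 1)⁻¹ := by rw [X.O_eq_D, ← X.wB_C]; group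
    _ = (X.wB 1 * X.C_ μ * (X.wB 1)⁻¹) * (X.wB 1 * X.B_ (2 * (σ * μ)) * (X.wB 1)⁻¹) := by rw [hD]; group
    _ = _ := by rw [X.wB_C, hB]

theorem O_conj_A (σ c : F) : X.O_ σ * X.A_ c * (X.O_ σ)⁻¹ = X.A_ c * X.E_ (c * σ) * X.Bn (c * σ * σ) := by
  have hD : X.D_ σ * X.A_ c * (X.D_ σ)⁻¹ = X.A_ c * X.C_ (c * σ) * X.B_ (c * σ * σ) := by
    refine X.Da_conj (X.D_mem σ) (X.mem_Da_M (X.A_mem c))
      (mul_mem (mul_mem (X.mem_Da_M (X.A_mem _)) (X.mem_Da_M (X.C_mem _))) (X.mem_Da_M (X.B_mem _))) ?_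
    have e1 : ap (qh X.a' (σ • X.b) 0) X.a = X.a + σ • X.b := by
      rw [ap_qh (X.a'_tb σ), X.aa', om_smul_right, X.ab]; module
    rw [X.θD, map_mul, map_mul, X.θA, X.θC, X.θB, qh_conj (om_zero_right _), e1, ap_zero, qh_expand0 X.ab σ c]
  have hB : X.wB 1 * X.B_ (c * σ * σ) * (X.wB 1)⁻¹ = X.Bn (c * σ * σ) :=
    (X.amal.injS X.ib).eq (mul_mem (mul_mem (X.wB_mem 1) (X.B_mem_Sb _)) (inv_mem (X.wB_mem 1))) (X.Bn_mem _)
      (by rw [map_mul, map_mul, map_inv, X.θwB, X.θB, X.θBn, qh_conj (om_zero_right _), X.wB1_b, ap_zero])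
  have hA : X.wB 1 * X.A_ c * (X.wB 1)⁻¹ = X.A_ c := by
    rw [(X.A_G (X.GSb_le (X.wB_mem 1)) c).eq, mul_inv_cancel_right]
  calc X.O_ σ * X.A_ c * (X.O_ σ)⁻¹
      = X.O_ σ * (X.wB 1 * X.A_ c * (X.wB 1)⁻¹) * (X.O_ σ)⁻¹ := by rw [hA]
    _ = X.wB 1 * (X.D_ σ * X.A_ c * (X.D_ σ)⁻¹) * (X.wB 1)⁻¹ := by rw [X.O_eq_D]; group
    _ = (X.wB 1 * X.A_ c * (X.wB 1)⁻¹) * (X.wB 1 * X.C_ (c * σ) * (X.wB 1)⁻¹) *
          (X.wB 1 * X.B_ (c * σ * σ) * (X.wB 1)⁻¹) := by rw [hD]; group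
    _ = _ := by rw [hA, X.wB_C, hB]

/-- The elements whose conjugates under `O` stay in the parabolic subgroup. -/
theorem Q_split {q : K} (hq : q ∈ X.Qr) : ∃ β : F, ∃ q' ∈ X.Qr, q = X.C_ β * q' ∧
    ∀ σ : F, X.O_ σ * q' * (X.O_ σ)⁻¹ ∈ X.Pp := by
  obtain ⟨v, c, hv, rfl⟩ := hq
  obtain ⟨p, u, hp, hu, rfl⟩ := split_vec X.hk hv
  change OnJ X.ib p at hp
  obtain ⟨β, μ, rfl⟩ : ∃ β μ, p = β • X.b + μ • X.b' := ⟨_, _, plane_eq hp⟩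
  have hu1 : InV (k + 1) u := hu.mono (Nat.le_succ _)
  have hb : InV (k + 1) (β • X.b) := X.inV_b.smul β
  have hb' : InV (k + 1) (μ • X.b') := X.inV_b'.smul μ
  have e1 : X.x (μ • X.b' + u) = X.E_ μ * X.x u := by
    have h := X.x_mul hb' hu1
    rw [om_smul_right, (X.perp2 hu).2.2.2, mul_zero, X.A_zero, mul_one, X.x_tb'] at h
    exact h.symm
  set d := om (μ • X.b' + u) (β • X.b)
  have e2 : X.x (β • X.b + μ • X.b' + u) = X.C_ β * (X.E_ μ * X.x u) * X.A_ (-d) := by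
    have h := X.x_mul hb (hb'.add hu1)
    rw [X.x_tb, ← add_assoc] at h
    rw [← e1, h, mul_assoc, X.A_add, add_neg_cancel, X.A_zero, mul_one]
  refine ⟨β, X.E_ μ * X.x u * X.A_ (-d + c),
    mul_mem (mul_mem (X.E_mem_Qr μ) (X.x_mem_Qr hu1)) (X.A_mem_Qr _), ?_, fun σ => ?_⟩
  · rw [e2, ← X.A_add]; group
  · have hQ : ∀ {g : K}, g ∈ X.Qr → g ∈ X.Pp := fun h => Subgroup.mem_sup_right h
    have hA : ∀ {g : K}, g ∈ Gam GS GM (k + 1) → g ∈ X.Pp := fun h => Subgroup.mem_sup_left (X.G_le_AA h)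
    rw [show X.O_ σ * (X.E_ μ * X.x u * X.A_ (-d + c)) * (X.O_ σ)⁻¹ = (X.O_ σ * X.E_ μ * (X.O_ σ)⁻¹) *
      (X.O_ σ * X.x u * (X.O_ σ)⁻¹) * (X.O_ σ * X.A_ (-d + c) * (X.O_ σ)⁻¹) by group, X.O_conj_E, X.magic hu,
      X.O_conj_A]
    exact mul_mem (mul_mem (mul_mem (hQ (X.E_mem_Qr μ)) (hA (X.GSb_le (X.Bn_mem _))))
      (mul_mem (hA (X.L_mem _)) (hQ (X.x_mem_Qr hu1))))
      (mul_mem (mul_mem (hQ (X.A_mem_Qr _)) (hQ (X.E_mem_Qr _))) (hA (X.GSb_le (X.Bn_mem _))))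

theorem Wt_O (t : F) : X.Wt * X.O_ t * X.Wt⁻¹ = X.C_ t := by
  have h1 : X.wB 1 * X.O_ t * (X.wB 1)⁻¹ = X.wA 1 * X.C_ (-t) * (X.wA 1)⁻¹ := by
    calc X.wB 1 * X.O_ t * (X.wB 1)⁻¹ = (X.wB 1 * X.wA 1) * X.E_ t * (X.wB 1 * X.wA 1)⁻¹ := by rw [O_]; group
      _ = (X.wA 1 * X.wB 1) * X.E_ t * (X.wA 1 * X.wB 1)⁻¹ := by rw [(X.wA_wB 1 1).eq]
      _ = X.wA 1 * (X.wB 1 * X.E_ t * (X.wB 1)⁻¹) * (X.wA 1)⁻¹ := by group
      _ = _ := by rw [X.wB_E]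
  have h2 : X.wA 1 * X.wA 1 * X.C_ (-t) * (X.wA 1 * X.wA 1)⁻¹ = X.C_ t := by
    refine X.Da_conj (mul_mem (X.mem_Da_S (X.wA_mem 1)) (X.mem_Da_S (X.wA_mem 1))) (X.mem_Da_M (X.C_mem _))
      (X.mem_Da_M (X.C_mem _)) ?_
    rw [map_mul, X.θwA, X.θC, X.θC, qh_conj (X.a_tb _), ap_mul, X.wA1_a, X.wA1_a', ap_smul, ap_mul,
      X.wA_fix X.inV_b, X.wA_fix X.inV_b]
    rw [← neg_one_smul F X.a, qh_smul_left (X.a_tb _), smul_smul]
    simp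
  calc X.Wt * X.O_ t * X.Wt⁻¹ = X.wA 1 * (X.wB 1 * X.O_ t * (X.wB 1)⁻¹) * (X.wA 1)⁻¹ := by rw [Wt]; group
    _ = X.wA 1 * X.wA 1 * X.C_ (-t) * (X.wA 1 * X.wA 1)⁻¹ := by rw [h1]; group
    _ = _ := h2

theorem Wt_C (t : F) : X.Wt * X.C_ t * X.Wt⁻¹ = X.O_ t := by
  calc X.Wt * X.C_ t * X.Wt⁻¹ = X.wA 1 * (X.wB 1 * X.C_ t * (X.wB 1)⁻¹) * (X.wA 1)⁻¹ := by rw [Wt]; group
    _ = _ := by rw [X.wB_C]; rfl

theorem Wt_Qr {q : K} (hq : q ∈ X.Qr) : X.Wt * q * X.Wt⁻¹ ∈ X.Rr :=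
  X.mem_Rr.2 ⟨_, X.AA_Qr _ (X.G_le_AA (X.GSb_le (X.wB_mem 1))) q hq, by rw [Wt]; group⟩

theorem Wt_Rr {r : K} (hr : r ∈ X.Rr) : X.Wt⁻¹ * r * X.Wt ∈ X.Qr := by
  obtain ⟨q, hq, rfl⟩ := X.mem_Rr.1 hr
  have := X.AA_Qr _ (X.G_le_AA (inv_mem (X.GSb_le (X.wB_mem 1)))) q hq
  rwa [show X.Wt⁻¹ * (X.wA 1 * q * (X.wA 1)⁻¹) * X.Wt = (X.wB 1)⁻¹ * q * (X.wB 1)⁻¹⁻¹ by rw [Wt]; group]

theorem Wt_AA {h : K} (hh : h ∈ X.AA) : X.Wt * h * X.Wt⁻¹ ∈ X.AA := by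
  obtain ⟨r, γ, hr, hγ, rfl⟩ := hh
  have hw := X.GSb_le (X.wB_mem 1)
  refine ⟨r⁻¹, X.wB 1 * γ * (X.wB 1)⁻¹, inv_ne_zero hr, mul_mem (mul_mem hw hγ) (inv_mem hw), ?_⟩
  set γ' := X.wB 1 * γ * (X.wB 1)⁻¹
  calc X.Wt * (X.ha r * γ) * X.Wt⁻¹ = X.wA 1 * (X.wB 1 * X.ha r) * γ * (X.wB 1)⁻¹ * (X.wA 1)⁻¹ := by rw [Wt]; group
    _ = X.wA 1 * X.ha r * (γ' * (X.wA 1)⁻¹) := by rw [(X.ha_G hw r).eq]; simp only [γ']; group
    _ = _ := by rw [((X.wA_G (mul_mem (mul_mem hw hγ) (inv_mem hw)) 1).inv_right).eq, ← X.wA_ha hr]; simp only [γ']; group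

theorem R_split {r : K} (hr : r ∈ X.Rr) : ∃ α : F, ∃ r' ∈ X.Rr, r = r' * X.O_ α ∧
    ∀ u : F, (X.C_ u)⁻¹ * r' * X.C_ u ∈ X.AA ⊔ X.Rr := by
  obtain ⟨β, q', hq', e, hgood⟩ := X.Q_split (inv_mem (X.Wt_Rr hr))
  refine ⟨-β, X.Wt * q'⁻¹ * X.Wt⁻¹, X.Wt_Qr (inv_mem hq'), ?_, fun u => ?_⟩
  · have e' : X.Wt⁻¹ * r * X.Wt = q'⁻¹ * X.C_ (-β) := by rw [← _root_.inv_inj, e, ← X.C_inv]; group
    rw [← X.Wt_C]
    calc r = X.Wt * (X.Wt⁻¹ * r * X.Wt) * X.Wt⁻¹ := by group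
      _ = _ := by rw [e']; group
  · rw [← X.Wt_O, show (X.Wt * X.O_ u * X.Wt⁻¹)⁻¹ * (X.Wt * q'⁻¹ * X.Wt⁻¹) * (X.Wt * X.O_ u * X.Wt⁻¹) =
      X.Wt * ((X.O_ u)⁻¹ * q'⁻¹ * (X.O_ u)⁻¹⁻¹) * X.Wt⁻¹ by group]
    have hm : (X.O_ u)⁻¹ * q'⁻¹ * (X.O_ u)⁻¹⁻¹ ∈ X.Pp := by
      have := inv_mem (hgood (-u))
      rw [← X.O_inv] at this
      rwa [show (X.O_ u)⁻¹ * q'⁻¹ * (X.O_ u)⁻¹⁻¹ = ((X.O_ u)⁻¹ * q' * (X.O_ u)⁻¹⁻¹)⁻¹ by group]
    obtain ⟨h, hh, q, hq, e2⟩ := mem_sup_norm X.AA_Qr hm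
    rw [e2, show X.Wt * (h * q) * X.Wt⁻¹ = (X.Wt * h * X.Wt⁻¹) * (X.Wt * q * X.Wt⁻¹) by group]
    exact mul_mem (Subgroup.mem_sup_left (X.Wt_AA hh)) (Subgroup.mem_sup_right (X.Wt_Qr hq))

theorem k'_mem {k' : K} (h : k' = 1 ∨ ∃ l m : F, l ≠ 0 ∧ m ≠ 0 ∧
    k' = X.wB 1 * ((X.wE l * (X.wE 1)⁻¹) * (X.wE m * (X.wE 1)⁻¹)⁻¹) * (X.wB 1)⁻¹) : k' ∈ X.AA := by
  rcases h with rfl | ⟨l, m, hl, hm, rfl⟩
  · exact one_mem _
  have key : ∀ {l : F}, l ≠ 0 → X.wE l * (X.wE 1)⁻¹ ∈ X.AA := by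
    intro l hl
    rw [X.wE_symbol hl]
    have : X.wA l * (X.wA 1)⁻¹ = X.ha l :=
      (X.amal.injS X.ia).eq (mul_mem (X.wA_mem l) (inv_mem (X.wA_mem 1))) (X.ha_mem l)
        (by rw [map_mul, map_inv, X.θwA, X.θwA, X.θha]; rfl)
    rw [this]
    exact mul_mem (X.ha_mem_AA hl)
      (X.G_le_AA (mul_mem (inv_mem (X.GSb_le (X.wB_mem _))) (X.GSb_le (X.wB_mem _))))
  exact mul_mem (mul_mem (X.G_le_AA (X.GSb_le (X.wB_mem 1))) (mul_mem (key hl) (inv_mem (key hm))))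
    (inv_mem (X.G_le_AA (X.GSb_le (X.wB_mem 1))))

/-- The product of the three parts. -/
def Om (g : K) : Prop := ∃ p ∈ X.Pp, ∃ r ∈ X.Rr, ∃ q ∈ X.Qr, g = p * r * q

theorem Om_Qr {g y : K} (hg : X.Om g) (hy : y ∈ X.Qr) : X.Om (g * y) := by
  obtain ⟨p, hp, r, hr, q, hq, rfl⟩ := hg
  exact ⟨p, hp, r, hr, q * y, mul_mem hq hy, by group⟩

theorem Om_AA {g y : K} (hg : X.Om g) (hy : y ∈ X.AA) : X.Om (g * y) := by
  obtain ⟨p, hp, r, hr, q, hq, rfl⟩ := hg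
  refine ⟨p * y, mul_mem hp (Subgroup.mem_sup_left hy), y⁻¹ * r * y⁻¹⁻¹, X.AA_Rr _ (inv_mem hy) r hr,
    y⁻¹ * q * y⁻¹⁻¹, X.AA_Qr _ (inv_mem hy) q hq, by group⟩

theorem Om_O {g : K} (hg : X.Om g) (t : F) : X.Om (g * X.O_ t) := by
  obtain ⟨p, hp, r, hr, q, hq, rfl⟩ := hg
  obtain ⟨β, q', hq', eq, hgood⟩ := X.Q_split hq
  have hm := hgood (-t)
  rw [← X.O_inv, inv_inv] at hm
  obtain ⟨h, hh, q₁, hq₁, e1⟩ := mem_sup_norm X.AA_Qr hm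
  obtain ⟨α, r', hr', er, hrgood⟩ := X.R_split hr
  obtain ⟨u, v, w, k', hk', edec⟩ := X.pair_decomp α β t
  obtain ⟨h', hh', r'', hr'', e2⟩ := mem_sup_norm X.AA_Rr (hrgood u)
  have hkm := X.k'_mem hk'
  refine ⟨p * X.C_ u * h' * k' * h, ?_, (k' * h)⁻¹ * r'' * (k' * h)⁻¹⁻¹ * (h⁻¹ * X.O_ v * h⁻¹⁻¹), ?_,
    h⁻¹ * X.C_ w * h⁻¹⁻¹ * q₁, ?_, ?_⟩
  · exact mul_mem (mul_mem (mul_mem (mul_mem hp (Subgroup.mem_sup_right (X.C_mem_Qr u))) (Subgroup.mem_sup_left hh'))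
      (Subgroup.mem_sup_left hkm)) (Subgroup.mem_sup_left hh)
  · exact mul_mem (X.AA_Rr _ (inv_mem (mul_mem hkm hh)) r'' hr'') (X.AA_Rr _ (inv_mem hh) _ (X.O_mem_Rr v))
  · exact mul_mem (X.AA_Qr _ (inv_mem hh) _ (X.C_mem_Qr w)) hq₁
  · calc p * r * q * X.O_ t = p * r' * (X.O_ α * X.C_ β * X.O_ t) * ((X.O_ t)⁻¹ * q' * X.O_ t) := by
          rw [er, eq]; group
      _ = p * r' * (X.C_ u * k' * X.O_ v * X.C_ w) * (h * q₁) := by rw [edec, e1]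
      _ = p * X.C_ u * ((X.C_ u)⁻¹ * r' * X.C_ u) * k' * X.O_ v * X.C_ w * h * q₁ := by group
      _ = _ := by rw [e2]; group

/-- The generating set. -/
def gens : Set K := ((X.AA : Set K) ∪ (X.Qr : Set K)) ∪ {g | ∃ t, g = X.O_ t}

theorem Gam_le_gens : Gam GS GM k ≤ Subgroup.closure X.gens := by
  set H := Subgroup.closure X.gens
  have hA : X.AA ≤ H := fun g hg => Subgroup.subset_closure (Or.inl (Or.inl hg))
  have hQ : X.Qr ≤ H := fun g hg => Subgroup.subset_closure (Or.inl (Or.inr hg))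
  have hO : ∀ t, X.O_ t ∈ H := fun t => Subgroup.subset_closure (Or.inr ⟨t, rfl⟩)
  have hG : Gam GS GM (k + 1) ≤ H := X.G_le_AA.trans hA
  have hAn : ∀ s, X.An s ∈ H := by
    intro s
    have hD : ∀ x, X.D_ x ∈ H := fun x => by
      rw [show X.D_ x = (X.wB 1)⁻¹ * X.O_ x * X.wB 1 by rw [X.O_eq_D]; group]
      exact mul_mem (mul_mem (inv_mem (hG (X.GSb_le (X.wB_mem 1)))) (hO x)) (hG (X.GSb_le (X.wB_mem 1)))
    have e : X.E_ (-1) * X.B_ s * X.E_ 1 = X.C_ (-(1 * s)) * X.A_ (1 * 1 * s) * X.B_ s := by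
      refine X.injDb.eq (mul_mem (mul_mem (X.E_mem _) (X.mem_Db_M (X.B_mem s))) (X.E_mem 1))
        (mul_mem (mul_mem (X.mem_Db_M (X.C_mem _)) (X.mem_Db_M (X.A_mem _))) (X.mem_Db_M (X.B_mem s))) ?_
      have hconj : qh X.b 0 s * qh X.a ((1 : F) • X.b') 0 * (qh X.b 0 s)⁻¹ =
          qh X.a ((1 : F) • X.b') 0 * (qh X.a ((-(1 * s)) • X.b) 0 * qh X.a 0 (1 * 1 * s)) := by
        rw [qh_conj (X.a_tb' 1), qh_fix (om_zero_right _) _ X.ab (om_zero_right _),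
          ap_smul, ap_qh (om_zero_right _), qh_mul (X.a_tb _) (om_zero_right _),
          qh_mul (X.a_tb' 1) (by rw [om_add_right, X.a_tb, om_zero_right, add_zero]),
          X.tbl.2.2.2.1, om_zero_right]
        simp only [om_add_left, om_smul_left, om_smul_right, om_zero_left, X.bb']
        congr 1
        · module
        · ring
      rw [← X.E_inv, map_mul, map_mul, map_inv, X.θE, X.θB, map_mul, map_mul, X.θC, X.θA, X.θB]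
      rw [mul_inv_eq_iff_eq_mul] at hconj
      rw [mul_assoc, hconj]; group
    have hAn' : X.An (1 * 1 * s) = (X.D_ (-(1 * s)))⁻¹ * X.O_ (-1) * X.B_ s * X.O_ 1 * (X.B_ s)⁻¹ := by
      have hB : X.wA 1 * X.B_ s * (X.wA 1)⁻¹ = X.B_ s := by
        rw [← (X.wA_G (X.GSb_le (X.B_mem_Sb s)) 1).eq, mul_inv_cancel_right]
      have hAA : X.wA 1 * X.A_ (1 * 1 * s) * (X.wA 1)⁻¹ = X.An (1 * 1 * s) :=
        (X.amal.injS X.ia).eq (mul_mem (mul_mem (X.wA_mem 1) (X.A_mem_Sa _)) (inv_mem (X.wA_mem 1))) (X.An_mem _)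
          (by rw [map_mul, map_mul, map_inv, X.θwA, X.θA, X.θAn, qh_conj (om_zero_right _), X.wA1_a, ap_zero])
      have h : X.wA 1 * (X.E_ (-1) * X.B_ s * X.E_ 1) * (X.wA 1)⁻¹ =
          X.wA 1 * (X.C_ (-(1 * s)) * X.A_ (1 * 1 * s) * X.B_ s) * (X.wA 1)⁻¹ := by rw [e]
      rw [show X.wA 1 * (X.E_ (-1) * X.B_ s * X.E_ 1) * (X.wA 1)⁻¹ =
        X.O_ (-1) * (X.wA 1 * X.B_ s * (X.wA 1)⁻¹) * X.O_ 1 by simp only [O_]; group, hB,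
        show X.wA 1 * (X.C_ (-(1 * s)) * X.A_ (1 * 1 * s) * X.B_ s) * (X.wA 1)⁻¹ =
          (X.wA 1 * X.C_ (-(1 * s)) * (X.wA 1)⁻¹) * (X.wA 1 * X.A_ (1 * 1 * s) * (X.wA 1)⁻¹) *
            (X.wA 1 * X.B_ s * (X.wA 1)⁻¹) by group, X.wA_C, hAA, hB] at h
      rw [show (X.D_ (-(1 * s)))⁻¹ * X.O_ (-1) * X.B_ s * X.O_ 1 * (X.B_ s)⁻¹ =
        (X.D_ (-(1 * s)))⁻¹ * (X.O_ (-1) * X.B_ s * X.O_ 1) * (X.B_ s)⁻¹ by group, h]
      group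
    rw [show s = 1 * 1 * s by ring, hAn']
    exact mul_mem (mul_mem (mul_mem (mul_mem (inv_mem (hD _)) (hO _)) (hG (X.GSb_le (X.B_mem_Sb s)))) (hO _))
      (inv_mem (hG (X.GSb_le (X.B_mem_Sb s))))
  rw [Subgroup.closure_le]
  rintro y (⟨j, hj, hy⟩ | ⟨i, hi, hi', hy⟩)
  · rcases Nat.eq_or_lt_of_le hj with e | e
    · have : j = X.ia := Fin.ext e.symm
      subst this
      have hT : θ y ∈ (H ⊓ GS X.ia).map θ := by
        refine Sj_gen (j := X.ia) (fun s => ?_) (fun s => ?_) (X.amal.mem_Sj hy)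
        · exact ⟨X.A_ s, ⟨hQ (X.A_mem_Qr s), X.A_mem_Sa s⟩, X.θA s⟩
        · exact ⟨X.An s, ⟨hAn s, X.An_mem s⟩, X.θAn s⟩
      obtain ⟨y', hy', ey⟩ := hT
      rw [(X.amal.injS X.ia).eq hy hy'.2 ey.symm]
      exact hy'.1
    · exact hG (GS_le_Gam (show k + 1 ≤ j.val by omega) hy)
  · rcases Nat.eq_or_lt_of_le hi with e | e
    · have : i = X.ia := Fin.ext e.symm
      subst this
      obtain ⟨α, β, γ, eq⟩ := X.M_decomp (X.amal.mem_Mi hi' hy)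
      have : y = X.C_ β * X.A_ α * X.B_ γ := X.injM.eq hy
        (mul_mem (mul_mem (X.C_mem _) (X.A_mem _)) (X.B_mem _)) (by
        rw [eq, map_mul, map_mul, X.θC, X.θA, X.θB, qh_mul (X.a_tb β) (om_zero_right _)]
        simp [om_zero_left])
      rw [this]
      exact mul_mem (mul_mem (hQ (X.C_mem_Qr β)) (hQ (X.A_mem_Qr α))) (hG (X.GSb_le (X.B_mem_Sb γ)))
    · exact hG (GM_le_Gam (show k + 1 ≤ i.val by omega) hi' hy)

theorem step : Inj θ (Gam GS GM k) := by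
  intro g hg e
  have hO : X.Om g := by
    have hg' := X.Gam_le_gens hg
    clear hg e
    induction hg' using Subgroup.closure_induction_right with
    | one => exact ⟨1, one_mem _, 1, one_mem _, 1, one_mem _, by group⟩
    | mul_right x _ y hy ih =>
      rcases hy with (hy | hy) | ⟨t, rfl⟩
      exacts [X.Om_AA ih hy, X.Om_Qr ih hy, X.Om_O ih t]
    | mul_inv_cancel x _ y hy ih =>
      rcases hy with (hy | hy) | ⟨t, rfl⟩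
      · exact X.Om_AA ih (inv_mem hy)
      · exact X.Om_Qr ih (inv_mem hy)
      · rw [X.O_inv]; exact X.Om_O ih _
  obtain ⟨p, hp, r, hr, q, hq, rfl⟩ := hO
  rw [map_mul, map_mul] at e
  have hr1 : r = 1 := by
    refine X.Rr_Pp hr (g := p⁻¹ * q⁻¹) (mul_mem (inv_mem hp) (inv_mem (Subgroup.mem_sup_right hq))) ?_
    rw [map_mul, map_inv, map_inv, eq_inv_mul_iff_mul_eq]
    exact eq_inv_of_mul_eq_one_left e
  subst hr1
  rw [mul_one]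
  exact X.injP _ (mul_mem hp (Subgroup.mem_sup_right hq)) (by simpa using e)

end Ctx

/-- The amalgam has trivial kernel. -/
theorem Amal.inj_all (A : Amal θ GS GM) (hF : ∃ c : F, c ≠ 0 ∧ c ≠ 1) :
    ∀ d k, k + d = n → Inj θ (Gam GS GM k) := by
  intro d
  induction d with
  | zero =>
    intro k hk g hg _
    have : Gam GS GM k ≤ ⊥ := by
      rw [Subgroup.closure_le]
      rintro y (⟨j, hj, -⟩ | ⟨i, hi, -⟩)
      · exact absurd j.isLt (by omega)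
      · exact absurd i.isLt (by omega)
    exact Subgroup.mem_bot.1 (this hg)
  | succ d ih =>
    intro k hk
    by_cases h : k + 1 < n
    · exact (Ctx.mk (k := k) A h (ih (k + 1) (by omega)) hF).step
    · have : Gam GS GM k ≤ GS ⟨k, by omega⟩ := by
        rw [Subgroup.closure_le]
        rintro y (⟨j, hj, hy⟩ | ⟨i, hi, hi', -⟩)
        · rwa [show (⟨k, by omega⟩ : Fin n) = j from Fin.ext (by have := j.isLt; show k = j.val; omega)]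
        · omega
      exact (A.injS _).mono this

end Cfsg.Agent.SlimSp
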